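import Mathlib

/-!
Owner: helper19. Walter, field part: the interface of the `p`-local (G-level) half
(notes/walter_field_helper22.md, G-level; notes/walter_field_helper19.md).

`f` is a `p`-element without fusion into other powers of itself, `A` a Sylow `p`-subgroup of `C(f)`,
`t` an involution of `C(f)` with `⟨f⟩` as the `p`-part of `C(f, t)`, `c ∈ C(f, t)` acts on the inverted
part of `A` as the `l`-th power, `l² ≢ 1 (mod p)`.  Then `f` is not in `O^p(G)`.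
-/

set_option autoImplicit false

namespace CfsgLib.Walter.Field

open Subgroup

universe u

/-- The hypotheses on `f`, `t`, `c` and the Sylow `p`-subgroup `A` of `C(f)`. -/
structure PPart {G : Type u} [Group G] (p : ℕ) (f t c : G) (A : Subgroup G) (l d : ℕ) : Prop where
  p_odd : p ≠ 2
  ord_f : ∃ b : ℕ, 0 < b ∧ orderOf f = p ^ b
  ord_t : orderOf t = 2
  tf : Commute t f
  cf : Commute c f
  ct : Commute c t
  pA : IsPGroup p A
  f_mem : f ∈ A
  comm : ∀ a ∈ A, ∀ b ∈ A, a * b = b * a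
  t_mem : ∀ a ∈ A, t * a * t⁻¹ ∈ A
  /-- `A` is a Sylow `p`-subgroup of `C(f)`. -/
  maxA : ∀ Q : Subgroup G, IsPGroup p Q → (∀ x ∈ Q, Commute x f) →
    ∃ u : G, Commute u f ∧ ∀ x ∈ Q, u * x * u⁻¹ ∈ A
  /-- The `p`-part of `C(f, t)` is `⟨f⟩`. -/
  fixed : ∀ x : G, Commute x f → Commute x t → (∃ k : ℕ, x ^ p ^ k = 1) → x ∈ zpowers f
  no_fusion : ∀ g : G, g * f * g⁻¹ ∈ zpowers f → g * f * g⁻¹ = f
  /-- `⟨t⟩` is a Sylow `2`-subgroup of `N(A) ∩ C(f, t)`. -/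
  two : ∀ x : G, Commute x f → Commute x t → (∀ a ∈ A, x * a * x⁻¹ ∈ A) → (∃ k : ℕ, x ^ 2 ^ k = 1) →
    x ∈ zpowers t
  scalar : ∀ a ∈ A, t * a * t⁻¹ = a⁻¹ → c * a * c⁻¹ = a ^ l
  d_cop : ¬ p ∣ d
  l_d : (l : ZMod p) ^ d = 1
  l_sq : (l : ZMod p) ^ 2 ≠ 1

/-- The statement of the G-level half: `f ∉ O^p(G)`. -/
def PPartStatement : Prop :=
  ∀ (G : Type u) [Group G] [Finite G] (p : ℕ) [Fact p.Prime] (f t c : G) (A : Subgroup G) (l d : ℕ),
    PPart p f t c A l d → ∃ φ : G →* Multiplicative (ZMod p), φ f ≠ 1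

end CfsgLib.Walter.Field
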