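import Cfsg.Agent.Lib.Recog.Walter.Field.PPart.Step
import Cfsg.Agent.Lib.Recog.Walter.Field.SylowKey

/-!
Owner: helper19. Walter, field part: the G-level half, `PPartStatement`.

A good Sylow `p`-subgroup `P` over `A`; all Sylow subgroups over `A` are conjugate to it under `C(A)`; the transfer
to `P / K⟨f ^ p⟩` does not vanish at `f`.
-/

set_option autoImplicit false
set_option linter.style.haveILetI false
set_option linter.unusedSectionVars false

namespace CfsgLib.Walter.Field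

open Subgroup MulAction
open scoped Pointwise

universe u

variable {G : Type u} [Group G] [Finite G] {p l d : ℕ} [hp : Fact p.Prime] {f t c : G} {A : Subgroup G}

/-- A proper `p`-subgroup grows in its normalizer inside a Sylow subgroup. -/
theorem exists_mem_normalizer {D : Subgroup G} (S : Sylow p G) (hlt : D < (S : Subgroup G)) :
    ∃ x ∈ (S : Subgroup G), x ∈ normalizer (D : Set G) ∧ x ∉ D := by
  haveI := S.isPGroup'.isNilpotent
  have hnc : NormalizerCondition (S : Subgroup G) := Group.normalizerCondition_of_isNilpotent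
  have hlt' : D.subgroupOf (S : Subgroup G) < ⊤ := lt_top_iff_ne_top.2 fun h1 =>
    hlt.ne (le_antisymm hlt.le (subgroupOf_eq_top.1 h1))
  obtain ⟨⟨x, hxS⟩, hxN, hxD⟩ := SetLike.exists_of_lt (hnc _ hlt')
  refine ⟨x, hxS, mem_normalizer_of_conj fun y hy => ?_, fun h1 => hxD (mem_subgroupOf.2 h1)⟩
  have h1 := (mem_normalizer_iff.1 hxN ⟨y, hlt.le hy⟩).1 (mem_subgroupOf.2 hy)
  simpa [mem_subgroupOf] using h1

/-- A larger good subgroup. -/
theorem PGood.exists_larger (h : PData p f t c A l d) {D : Subgroup G} {c' : G} (hG : PGood p f t c A D c')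
    (hns : ∀ S : Sylow p G, (S : Subgroup G) ≠ D) :
    ∃ (D' : Subgroup G) (c'' : G), D < D' ∧ PGood p f t c A D' c'' := by
  set M := normalizer (D : Set G) with hM
  obtain ⟨C, hCodd, hCcent, hCt, hconj, ⟨S, hS⟩, -⟩ := hG.normalizer_structure h
  set tM : M := ⟨t, hG.nt⟩ with htM
  set w : M := ⟨c', hG.norm⟩ with hw
  set D' : Subgroup G := (S : Subgroup M).map M.subtype with hD'
  have htt : tM * tM = 1 := Subtype.ext h.toPPart.t_sq
  -- `D < D'`
  obtain ⟨S₀, hS₀⟩ := hG.pr.exists_le_sylow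
  obtain ⟨x, hxS, hxN, hxD⟩ := exists_mem_normalizer S₀ (lt_of_le_of_ne hS₀ fun e => hns S₀ e.symm)
  haveI hDn : (D.subgroupOf M).Normal := normal_in_normalizer
  have hDp : IsPGroup p (D.subgroupOf M) := hG.pr.comap_of_injective M.subtype M.subtype_injective
  have hDS : D.subgroupOf M ≤ (S : Subgroup M) := le_trans le_sup_left
    (le_of_eq (S.is_maximal' (hDp.to_sup_of_normal_left S.isPGroup') le_sup_right))
  have hDD' : D ≤ D' := fun y hy => ⟨⟨y, le_normalizer hy⟩, hDS (mem_subgroupOf.2 hy), rfl⟩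
  have hlt : D < D' := by
    refine lt_of_le_of_ne hDD' fun heq => ?_
    obtain ⟨R, hR⟩ := ((S₀.isPGroup'.to_le (inf_le_left : (S₀ : Subgroup G) ⊓ M ≤ S₀)).of_equiv
      (subgroupOfEquivOfLe (inf_le_right : (S₀ : Subgroup G) ⊓ M ≤ M)).symm).exists_le_sylow
    have hDR : D.subgroupOf M ≤ (R : Subgroup M) := fun y hy =>
      hR (mem_subgroupOf.2 ⟨hS₀ (mem_subgroupOf.1 hy), y.2⟩)
    have hDSeq : D.subgroupOf M = (S : Subgroup M) := le_antisymm hDS fun y hy => by
      refine mem_subgroupOf.2 ?_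
      rw [heq]
      exact ⟨y, hy, rfl⟩
    have hRS : D.subgroupOf M = (R : Subgroup M) := eq_of_le_of_card_ge hDR (by
      rw [R.card_eq_multiplicity, hDSeq, S.card_eq_multiplicity])
    exact hxD (mem_subgroupOf.1 (hRS ▸ hR (mem_subgroupOf.2 ⟨hxS, hxN⟩) : (⟨x, hxN⟩ : M) ∈ D.subgroupOf M))
  -- adjust `c'`
  obtain ⟨n, hn, hnS⟩ := hconj (MulAut.conj w • S) S
  have hwt : tM * w = w * tM := Subtype.ext hG.ct.symm.eq
  have hWt : ∀ y : M, y ∈ ((MulAut.conj w • S : Sylow p M) : Subgroup M) →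
      tM * y * tM⁻¹ ∈ ((MulAut.conj w • S : Sylow p M) : Subgroup M) := by
    intro y hy
    rw [Sylow.pointwise_smul_def, Subgroup.mem_pointwise_smul_iff_inv_smul_mem, MulAut.smul_def,
      ← map_inv, MulAut.conj_apply, inv_inv] at hy ⊢
    rw [show w⁻¹ * (tM * y * tM⁻¹) * w = (w⁻¹ * tM) * y * (w⁻¹ * tM)⁻¹ by group,
      show w⁻¹ * tM = tM * w⁻¹ by
        rw [inv_mul_eq_iff_eq_mul, ← mul_assoc, ← hwt, mul_inv_cancel_right],
      show tM * w⁻¹ * y * (tM * w⁻¹)⁻¹ = tM * (w⁻¹ * y * w) * tM⁻¹ by group]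
    exact hS _ hy
  let σ : MulAut C :=
    { toFun := fun o => ⟨tM * o * tM⁻¹, hCt o o.2⟩
      invFun := fun o => ⟨tM * o * tM⁻¹, hCt o o.2⟩
      left_inv := fun o => Subtype.ext (by
        show tM * (tM * o * tM⁻¹) * tM⁻¹ = o
        rw [show tM * (tM * (o : M) * tM⁻¹) * tM⁻¹ = (tM * tM) * o * (tM * tM)⁻¹ by group, htt]; simp)
      right_inv := fun o => Subtype.ext (by
        show tM * (tM * o * tM⁻¹) * tM⁻¹ = o
        rw [show tM * (tM * (o : M) * tM⁻¹) * tM⁻¹ = (tM * tM) * o * (tM * tM)⁻¹ by group, htt]; simp)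
      map_mul' := fun a b => Subtype.ext (by
        show tM * ((a : M) * b) * tM⁻¹ = tM * a * tM⁻¹ * (tM * b * tM⁻¹)
        group) }
  have hti : tM⁻¹ = tM := inv_eq_of_mul_eq_one_right htt
  have hnorm' : n⁻¹ * (tM * n * tM⁻¹) ∈ normalizer ((S : Subgroup M) : Set M) := by
    refine mem_normalizer_of_conj fun y hy => ?_
    have h1 : tM⁻¹ * y * tM ∈ (S : Subgroup M) := by rw [hti]; nth_rewrite 2 [← hti]; exact hS y hy
    have h2 : n * (tM⁻¹ * y * tM) * n⁻¹ ∈ ((MulAut.conj w • S : Sylow p M) : Subgroup M) := by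
      rw [hnS, show n⁻¹ * (n * (tM⁻¹ * y * tM) * n⁻¹) * n = tM⁻¹ * y * tM by group]
      exact h1
    have h3 := (hnS _).1 (hWt _ h2)
    rwa [show n⁻¹ * (tM * n * tM⁻¹) * y * (n⁻¹ * (tM * n * tM⁻¹))⁻¹
      = n⁻¹ * (tM * (n * (tM⁻¹ * y * tM) * n⁻¹) * tM⁻¹) * n by group]
  obtain ⟨v, hv, -, hs⟩ := Invol.exists_fixed_mod σ hCodd σ.left_inv
    (V := (normalizer ((S : Subgroup M) : Set M)).subgroupOf C) (x := (⟨n, hn⟩ : C)⁻¹) (by
      refine mem_subgroupOf.2 ?_
      rw [Subgroup.coe_mul, Subgroup.coe_inv, map_inv, inv_inv]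
      exact hnorm')
  set s : C := v⁻¹ * (⟨n, hn⟩ : C)⁻¹ with hsd
  have hst : Commute (((s : M)) : G) t := by
    have h1 := congrArg (fun z : C => ((z : M) : G)) hs
    exact (mul_inv_eq_iff_eq_mul.1 h1).symm
  have hsc : ∀ y ∈ D, ((s : M) : G) * y = y * ((s : M) : G) := fun y hy => hCcent s s.2 y hy
  set c₂ : G := ((s : M) : G) * c' with hc₂
  have hsw : (s : M) * w ∈ normalizer ((S : Subgroup M) : Set M) := by
    refine mem_normalizer_of_conj fun y hy => ?_
    have h1 : w * y * w⁻¹ ∈ ((MulAut.conj w • S : Sylow p M) : Subgroup M) := by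
      rw [Sylow.pointwise_smul_def]
      exact Subgroup.smul_mem_pointwise_smul y (MulAut.conj w) _ hy
    have h2 := (hnS _).1 h1
    have h3 := (mem_normalizer_iff.1 (inv_mem (mem_subgroupOf.1 hv)) _).1 h2
    have e : (s : M) = ((v : M))⁻¹ * n⁻¹ := rfl
    rw [e]
    rwa [show (v : M)⁻¹ * n⁻¹ * w * y * ((v : M)⁻¹ * n⁻¹ * w)⁻¹
      = (v : M)⁻¹ * (n⁻¹ * (w * y * w⁻¹) * n) * ((v : M)⁻¹)⁻¹ by group]
  have hnorm : c₂ ∈ normalizer (D' : Set G) := mem_normalizer_of_conj (by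
    rintro _ ⟨y, hy, rfl⟩
    exact ⟨_, (mem_normalizer_iff.1 hsw y).1 hy, by simp [hc₂, hw]⟩)
  have hcen2 : Commute c₂ f := by
    have h1 : Commute (((s : M)) : G) f := hsc f (hG.le h.f_mem)
    exact h1.mul_left hG.cen
  have hct2 : Commute c₂ t := hst.mul_left hG.ct
  have hact2 : ∀ a ∈ A, c₂ * a * c₂⁻¹ = c * a * c⁻¹ := fun a ha => by
    rw [hc₂, show ((s : M) : G) * c' * a * (((s : M) : G) * c')⁻¹
      = ((s : M) : G) * (c' * a * c'⁻¹) * ((s : M) : G)⁻¹ by group, hG.act a ha,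
      hsc _ (hG.le (h.c_mem ha)), mul_inv_cancel_right]
  -- the `p'`-part
  obtain ⟨i, m, hm, hm2⟩ := Nat.exists_eq_pow_mul_and_not_dvd (orderOf_pos c₂).ne' p hp.out.one_lt.ne'
  obtain ⟨e, he1, he2⟩ := Nat.chineseRemainder ((hp.out.coprime_iff_not_dvd.2 h.c_cop).pow_left i) 0 1
  have hcpow : ∀ (k : ℕ), ∀ a ∈ A, c₂ ^ k * a * (c₂ ^ k)⁻¹ = c ^ k * a * (c ^ k)⁻¹ ∧
      c ^ k * a * (c ^ k)⁻¹ ∈ A := by
    intro k
    induction k with
    | zero => intro a ha; simpa using ha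
    | succ j ih =>
      intro a ha
      obtain ⟨e1, e2⟩ := ih a ha
      rw [conj_iterate, conj_iterate, e1]
      exact ⟨hact2 _ e2, h.c_mem e2⟩
  refine ⟨D', c₂ ^ e, hlt, ⟨S.isPGroup'.map _, hG.le.trans hDD', ?_, hcen2.pow_left e, hct2.pow_left e,
    ?_, pow_mem hnorm e, ?_⟩⟩
  · refine mem_normalizer_of_conj ?_
    rintro _ ⟨y, hy, rfl⟩
    exact ⟨_, hS y hy, rfl⟩
  · intro a ha
    have hce : c ^ e = c := by
      conv_rhs => rw [← pow_one c]
      exact pow_eq_pow_iff_modEq.2 he2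
    rw [(hcpow e a ha).1, hce]
  · intro hd
    refine hm (hd.trans (orderOf_dvd_of_pow_eq_one ?_))
    rw [← pow_mul]
    exact orderOf_dvd_iff_pow_eq_one.1 (hm2 ▸ mul_dvd_mul (Nat.modEq_zero_iff_dvd.1 he1) dvd_rfl)

/-- A good Sylow subgroup. -/
theorem PData.exists_good_sylow (h : PData p f t c A l d) :
    ∃ (P : Sylow p G) (c' : G), PGood p f t c A (P : Subgroup G) c' := by
  suffices ∀ (D : Subgroup G) (c' : G), PGood p f t c A D c' →
      ∃ (P : Sylow p G) (c' : G), PGood p f t c A (P : Subgroup G) c' from this A c h.good_start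
  intro D
  induction hn : Nat.card G - Nat.card D using Nat.strong_induction_on generalizing D with
  | _ k ih =>
  intro c' hG
  by_cases hs : ∃ S : Sylow p G, (S : Subgroup G) = D
  · obtain ⟨S, hS⟩ := hs
    exact ⟨S, c', hS.symm ▸ hG⟩
  push Not at hs
  obtain ⟨D', c'', hlt, hG'⟩ := hG.exists_larger h hs
  have h1 : Nat.card D < Nat.card D' := lt_of_le_of_ne (card_le_of_le hlt.le)
    fun h1 => hlt.ne (eq_of_le_of_card_ge hlt.le h1.ge)
  exact ih _ (by have := card_le_card_group D'; omega) D' rfl c'' hG'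

/-- The Sylow subgroups over `A` are conjugate under `C(A)`. -/
theorem PGood.exists_centralizer_conj (h : PData p f t c A l d) {P : Sylow p G} {c' : G}
    (hG : PGood p f t c A (P : Subgroup G) c') (P1 : Sylow p G) (hA : A ≤ (P1 : Subgroup G)) :
    ∃ n ∈ centralizer (A : Set G), ∀ x, x ∈ (P1 : Subgroup G) ↔ n * x * n⁻¹ ∈ (P : Subgroup G) := by
  induction hn : Nat.card (P : Subgroup G) - Nat.card ((P1 : Subgroup G) ⊓ P : Subgroup G)
    using Nat.strong_induction_on generalizing P1 with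
  | _ k ih =>
  set D : Subgroup G := (P1 : Subgroup G) ⊓ P with hD
  have hcardPP : Nat.card (P1 : Subgroup G) = Nat.card (P : Subgroup G) := by
    rw [P1.card_eq_multiplicity, P.card_eq_multiplicity]
  by_cases hDP : D = (P : Subgroup G)
  · refine ⟨1, one_mem _, fun x => ?_⟩
    have h1 : (P : Subgroup G) ≤ P1 := hDP ▸ inf_le_left
    rw [← eq_of_le_of_card_ge h1 hcardPP.le]
    simp
  have hlt : D < (P : Subgroup G) := lt_of_le_of_ne inf_le_right hDP
  have hlt1 : D < (P1 : Subgroup G) := lt_of_le_of_ne inf_le_left fun h1 => hDP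
    (eq_of_le_of_card_ge hlt.le (by rw [h1, hcardPP]))
  have hAD : A ≤ D := le_inf hA hG.le
  obtain ⟨C, -, hCcent, -, hconj, -, -⟩ := (hG.of_le h hlt.le hAD).normalizer_structure h
  set N : Subgroup G := normalizer (D : Set G) with hN
  have hgrow : ∀ S : Sylow p G, D < (S : Subgroup G) → D < (S : Subgroup G) ⊓ N := fun S hS => by
    obtain ⟨x, hxS, hxN, hxD⟩ := exists_mem_normalizer S hS
    exact lt_of_le_of_ne (le_inf hS.le le_normalizer) fun h1 => hxD (h1 ▸ ⟨hxS, hxN⟩)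
  obtain ⟨R0, hR0⟩ := ((P.isPGroup'.to_le (inf_le_left : (P : Subgroup G) ⊓ N ≤ P)).of_equiv
    (subgroupOfEquivOfLe (inf_le_right : (P : Subgroup G) ⊓ N ≤ N)).symm).exists_le_sylow
  obtain ⟨R1, hR1⟩ := ((P1.isPGroup'.to_le (inf_le_left : (P1 : Subgroup G) ⊓ N ≤ P1)).of_equiv
    (subgroupOfEquivOfLe (inf_le_right : (P1 : Subgroup G) ⊓ N ≤ N)).symm).exists_le_sylow
  obtain ⟨n, hnC, hn'⟩ := hconj R1 R0
  obtain ⟨P2, hP2⟩ := (R0.isPGroup'.map N.subtype).exists_le_sylow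
  have hsub : ∀ S : Sylow p G, A ≤ (S : Subgroup G) → D < (S : Subgroup G) ⊓ P →
      ∃ m ∈ centralizer (A : Set G), ∀ x, x ∈ (S : Subgroup G) ↔ m * x * m⁻¹ ∈ (P : Subgroup G) := by
    intro S hS hlt2
    have h1 : Nat.card D < Nat.card ((S : Subgroup G) ⊓ P : Subgroup G) :=
      lt_of_le_of_ne (card_le_of_le hlt2.le) fun h1 => hlt2.ne (eq_of_le_of_card_ge hlt2.le h1.ge)
    exact ih _ (by have := card_le_of_le (inf_le_right : (S : Subgroup G) ⊓ P ≤ P); omega) S hS rfl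
  have h20 : D < (P2 : Subgroup G) ⊓ P := lt_of_lt_of_le (hgrow P hlt)
    (le_inf (fun x hx => hP2 ⟨⟨x, hx.2⟩, hR0 (mem_subgroupOf.2 hx), rfl⟩) inf_le_left)
  obtain ⟨m, hm, hmP⟩ := hsub P2 (hAD.trans (h20.le.trans inf_le_left)) h20
  set g : G := m * (n : G)⁻¹ with hg
  have hgA : g ∈ centralizer (A : Set G) :=
    mul_mem hm (inv_mem (mem_centralizer_iff.2 fun a ha => (hCcent n hnC a (hAD ha)).symm))
  have hmove : ∀ x ∈ (P1 : Subgroup G) ⊓ N, g * x * g⁻¹ ∈ (P : Subgroup G) := fun x hx => by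
    have h1 := (hn' ⟨x, hx.2⟩).1 (hR1 (mem_subgroupOf.2 hx))
    have h2 := (hmP _).1 (hP2 ⟨_, h1, rfl⟩)
    rwa [show m * N.subtype (n⁻¹ * ⟨x, hx.2⟩ * n) * m⁻¹ = g * x * g⁻¹ by simp [hg, mul_assoc]] at h2
  have hgA' : ∀ a ∈ A, g * a * g⁻¹ = a := fun a ha => by
    rw [← mem_centralizer_iff.1 hgA a ha, mul_inv_cancel_right]
  have hS : A ≤ ((g • P1 : Sylow p G) : Subgroup G) := fun a ha => by
    rw [Sylow.coe_subgroup_smul, Subgroup.mem_pointwise_smul_iff_inv_smul_mem, MulAut.smul_def,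
      ← map_inv, MulAut.conj_apply, inv_inv]
    have e : g⁻¹ * a * g = a := by
      conv_lhs => rw [← hgA' a ha]
      group
    rw [e]
    exact hA ha
  have hle : ((P1 : Subgroup G) ⊓ N).map (MulAut.conj g).toMonoidHom ≤
      ((g • P1 : Sylow p G) : Subgroup G) ⊓ P := by
    rintro _ ⟨x, hx, rfl⟩
    refine ⟨?_, hmove x hx⟩
    rw [Sylow.coe_subgroup_smul]
    exact Subgroup.smul_mem_pointwise_smul x (MulAut.conj g) _ hx.1
  have hc : Nat.card D < Nat.card (((g • P1 : Sylow p G) : Subgroup G) ⊓ P : Subgroup G) := by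
    refine lt_of_lt_of_le ?_ (card_le_of_le hle)
    rw [card_map_of_injective (MulAut.conj g).injective]
    have h5 := hgrow P1 hlt1
    exact lt_of_le_of_ne (card_le_of_le h5.le) fun h1 => h5.ne (eq_of_le_of_card_ge h5.le h1.ge)
  obtain ⟨m', hm', hm'P⟩ := ih _ (by
    have := card_le_of_le (inf_le_right : ((g • P1 : Sylow p G) : Subgroup G) ⊓ P ≤ P)
    omega) (g • P1) hS rfl
  refine ⟨m' * g, mul_mem hm' hgA, fun x => ?_⟩
  rw [show m' * g * x * (m' * g)⁻¹ = m' * (g * x * g⁻¹) * m'⁻¹ by group, ← hm'P,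
    Sylow.coe_subgroup_smul, ← MulAut.conj_apply, ← MulAut.smul_def,
    Subgroup.smul_mem_pointwise_smul_iff]

/-- The map to `ZMod p` along `f`. -/
theorem PGood.exists_coord (h : PData p f t c A l d) {P : Sylow p G} {c' : G}
    (hG : PGood p f t c A (P : Subgroup G) c') :
    ∃ H : (P : Subgroup G) →* Multiplicative (ZMod p),
      H ⟨f, hG.le h.f_mem⟩ = Multiplicative.ofAdd 1 ∧
      (∀ y : (P : Subgroup G), H y ≠ 1 → ∀ m : ℕ, y ^ m = 1 → orderOf f ∣ m) ∧
      ∀ g : normalizer ((P : Subgroup G) : Set G),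
        H ((P : Subgroup G).normalizerMonoidHom g ⟨f, hG.le h.f_mem⟩) = Multiplicative.ofAdd 1 := by
  obtain ⟨-, -, -, -, -, -, hfix⟩ := hG.normalizer_structure h
  have hcf := hG.conf h
  have hsp := hcf.split
  set fP : (P : Subgroup G) := ⟨f, hG.le h.f_mem⟩ with hfP
  let K : Subgroup (P : Subgroup G) :=
    { carrier := {x | hG.τ x = x⁻¹}
      mul_mem' := fun {a b} (ha : hG.τ a = a⁻¹) (hb : hG.τ b = b⁻¹) => by
        show hG.τ (a * b) = (a * b)⁻¹
        rw [map_mul, ha, hb, ← mul_inv_rev, (hsp.comm a b ha hb).eq]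
      one_mem' := by show hG.τ 1 = 1⁻¹; simp
      inv_mem' := fun {a} (ha : hG.τ a = a⁻¹) => by
        show hG.τ a⁻¹ = a⁻¹⁻¹
        rw [map_inv, ha] }
  haveI hKn : K.Normal := ⟨fun x (hx : hG.τ x = x⁻¹) g => by
    obtain ⟨k, a, hk, ha, rfl⟩ := hsp.cover g
    have hax : hG.τ (a * x * a⁻¹) = (a * x * a⁻¹)⁻¹ := by
      rw [map_mul, map_mul, map_inv, (hcf.fixed a).2 ha, hx]; group
    rw [show k * a * x * (k * a)⁻¹ = k * (a * x * a⁻¹) * k⁻¹ by group]
    exact mul_mem (mul_mem (show k ∈ K from hk) (show a * x * a⁻¹ ∈ K from hax)) (inv_mem (show k ∈ K from hk))⟩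
  have hKf : ∀ a ∈ K, a ∈ zpowers fP → a = 1 := fun a (ha : hG.τ a = a⁻¹) ha' =>
    hcf.inverted_eq_one ha ((hcf.fixed a).2 ha')
  have hf1 : fP ≠ 1 := fun h1 => by
    obtain ⟨b, hb, hbo⟩ := h.ord_f
    rw [show f = 1 from congrArg Subtype.val h1, orderOf_one] at hbo
    exact (Nat.one_lt_pow hb.ne' hp.out.one_lt).ne hbo
  have hfK : (fP : (P : Subgroup G) ⧸ K) ≠ 1 := fun h1 =>
    hf1 (hKf fP ((QuotientGroup.eq_one_iff fP).1 h1) (mem_zpowers fP))
  have hgenK : ∀ q : (P : Subgroup G) ⧸ K, q ∈ zpowers (fP : (P : Subgroup G) ⧸ K) := fun q => by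
    obtain ⟨x, rfl⟩ := QuotientGroup.mk_surjective q
    obtain ⟨k, a, hk, ha, rfl⟩ := hsp.cover x
    rw [QuotientGroup.mk_mul, (QuotientGroup.eq_one_iff k).2 (show k ∈ K from hk), one_mul]
    obtain ⟨i, rfl⟩ := mem_zpowers_iff.1 ha
    exact mem_zpowers_iff.2 ⟨i, rfl⟩
  have hdvd : orderOf (Multiplicative.ofAdd (1 : ZMod p)) ∣ orderOf (fP : (P : Subgroup G) ⧸ K) := by
    obtain ⟨n, hn⟩ := hG.pr.to_quotient K (fP : (P : Subgroup G) ⧸ K)
    obtain ⟨i, -, hi⟩ := (Nat.dvd_prime_pow hp.out).1 (orderOf_dvd_of_pow_eq_one hn)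
    rw [orderOf_ofAdd_eq_addOrderOf, ZMod.addOrderOf_one, hi]
    exact dvd_pow_self p fun h0 => hfK (orderOf_eq_one_iff.1 (by rw [hi, h0, pow_zero]))
  set η := monoidHomOfForallMemZpowers hgenK hdvd with hη
  have hηf : η (fP : (P : Subgroup G) ⧸ K) = Multiplicative.ofAdd 1 := monoidHomOfForallMemZpowers_apply_gen _ _
  set H := η.comp (QuotientGroup.mk' K) with hH
  have hHf : H fP = Multiplicative.ofAdd 1 := hηf
  have hHK : ∀ k ∈ K, H k = 1 := fun k hk => by
    rw [hH, MonoidHom.comp_apply, QuotientGroup.mk'_apply, (QuotientGroup.eq_one_iff k).2 hk, map_one]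
  refine ⟨H, hHf, ?_, fun g => ?_⟩
  · intro y hyH m hym
    obtain ⟨k, a, hk, ha, rfl⟩ := hsp.cover y
    rw [map_mul, hHK k hk, one_mul] at hyH
    obtain ⟨i, rfl⟩ := mem_powers_iff_mem_zpowers.2 ha
    have h1 : fP ^ (i * m) = 1 := hKf _ (by
      have h2 := congrArg (QuotientGroup.mk' K) hym
      rw [map_pow, map_mul, map_one] at h2
      simp only [QuotientGroup.mk'_apply, (QuotientGroup.eq_one_iff k).2 (show k ∈ K from hk), one_mul] at h2
      rw [← QuotientGroup.mk_pow, ← pow_mul, QuotientGroup.eq_one_iff] at h2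
      exact h2) (pow_mem (mem_zpowers fP) _)
    have hi : ¬ p ∣ i := fun hd => hyH (by
      show H (fP ^ i) = 1
      rw [map_pow, hHf, ← ofAdd_nsmul, nsmul_eq_mul, mul_one, (ZMod.natCast_eq_zero_iff i p).2 hd]
      rfl)
    obtain ⟨b, -, hbo⟩ := h.ord_f
    rw [hbo]
    have h3 : p ^ b ∣ i * m := by
      rw [← hbo, show orderOf f = orderOf fP from Subgroup.orderOf_coe fP]
      exact orderOf_dvd_of_pow_eq_one h1
    exact (Nat.Coprime.pow_left _ ((hp.out.coprime_iff_not_dvd).2 hi)).dvd_of_dvd_mul_left h3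
  · have hexp : ∀ x : Multiplicative (ZMod p), x ^ p = 1 := fun x => Multiplicative.toAdd.injective (by
      rw [toAdd_pow, nsmul_eq_mul, ZMod.natCast_self, zero_mul, toAdd_one])
    have hker : frattini (P : Subgroup G) ≤ H.ker := CfsgLib.PGroups.frattini_le_of_elementary
      (p := p) (Abelianization.commutator_subset_ker H) fun x => by rw [MonoidHom.mem_ker, map_pow, hexp]
    have h1 := MonoidHom.mem_ker.1 (hker (hfix (fun Q hQ hle => P.is_maximal' hQ hle) g))
    rw [map_mul, map_inv, inv_mul_eq_one] at h1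
    rw [← h1, hHf]

open scoped Classical in
/-- **The G-level half.** -/
theorem PData.exists_hom (h : PData p f t c A l d) : ∃ φ : G →* Multiplicative (ZMod p), φ f ≠ 1 := by
  obtain ⟨P, c', hG⟩ := h.exists_good_sylow
  obtain ⟨H, -, hsmall, hinv⟩ := hG.exists_coord h
  letI : Fintype (G ⧸ (P : Subgroup G)) := Fintype.ofFinite _
  refine ⟨MonoidHom.transfer H, ?_⟩
  set c0 : Multiplicative (ZMod p) := Multiplicative.ofAdd 1 with hc0
  let Fx : G → Multiplicative (ZMod p) := fun g =>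
    if hg : g⁻¹ * f * g ∈ (P : Subgroup G) then H ⟨_, hg⟩ else c0
  have hFx : ∀ (g : G) (u : (P : Subgroup G)), Fx (g * u) = Fx g := fun g u => by
    have he : (g * u)⁻¹ * f * (g * u) = (u : G)⁻¹ * (g⁻¹ * f * g) * u := by group
    simp only [Fx]
    by_cases hg : g⁻¹ * f * g ∈ (P : Subgroup G)
    · have hg' : (g * u)⁻¹ * f * (g * u) ∈ (P : Subgroup G) := by
        rw [he]; exact mul_mem (mul_mem (inv_mem u.2) hg) u.2
      rw [dif_pos hg, dif_pos hg', show (⟨_, hg'⟩ : (P : Subgroup G)) = u⁻¹ * ⟨_, hg⟩ * u from Subtype.ext he,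
        map_mul, map_mul, map_inv, mul_comm _ (H u), mul_inv_cancel_left]
    · have hg' : (g * u)⁻¹ * f * (g * u) ∉ (P : Subgroup G) := fun h1 => hg (by
        rw [he] at h1
        have h2 := mul_mem (mul_mem u.2 h1) (inv_mem u.2)
        rwa [show (u : G) * ((u : G)⁻¹ * (g⁻¹ * f * g) * u) * (u : G)⁻¹ = g⁻¹ * f * g by group] at h2)
      rw [dif_neg hg, dif_neg hg']
  let F : G ⧸ (P : Subgroup G) → Multiplicative (ZMod p) := fun q =>
    Quotient.liftOn' q Fx fun a b hab => by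
      have h1 := QuotientGroup.leftRel_apply.1 hab
      rw [← hFx a ⟨_, h1⟩, mul_inv_cancel_left]
  have hFmk : ∀ g : G, F (g : G ⧸ (P : Subgroup G)) = Fx g := fun g => rfl
  have hFA : ∀ (a : A) (q : G ⧸ (P : Subgroup G)), F (a • q) = F q := fun a q => by
    obtain ⟨g, rfl⟩ := QuotientGroup.mk_surjective q
    show Fx ((a : G) * g) = Fx g
    have he : ((a : G) * g)⁻¹ * f * ((a : G) * g) = g⁻¹ * f * g := by
      rw [mul_inv_rev, show g⁻¹ * (a : G)⁻¹ * f * ((a : G) * g) = g⁻¹ * ((a : G)⁻¹ * f * a) * g by group,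
        mul_assoc ((a : G)⁻¹), h.comm f h.f_mem a a.2, inv_mul_cancel_left]
    simp only [Fx, he]
  have hfix : ∀ q : G ⧸ (P : Subgroup G), (∀ a : A, a • q = q) → F q = c0 := fun q hq => by
    obtain ⟨g, rfl⟩ := QuotientGroup.mk_surjective q
    have hAg : ∀ a ∈ A, g⁻¹ * a * g ∈ (P : Subgroup G) := fun a ha => by
      have h1 : ((a * g : G) : G ⧸ (P : Subgroup G)) = (g : G ⧸ (P : Subgroup G)) := hq ⟨a, ha⟩
      rw [eq_comm, QuotientGroup.eq, ← mul_assoc] at h1
      exact h1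
    have hS : A ≤ ((g • P : Sylow p G) : Subgroup G) := fun a ha => by
      rw [Sylow.coe_subgroup_smul, Subgroup.mem_pointwise_smul_iff_inv_smul_mem, MulAut.smul_def,
        ← map_inv, MulAut.conj_apply, inv_inv]
      exact hAg a ha
    obtain ⟨n, hn, hnP⟩ := hG.exists_centralizer_conj h (g • P) hS
    have hN : n * g ∈ normalizer ((P : Subgroup G) : Set G) := mem_normalizer_iff.2 fun x => by
      rw [show n * g * x * (n * g)⁻¹ = n * (g * x * g⁻¹) * n⁻¹ by group, ← hnP,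
        Sylow.coe_subgroup_smul, ← MulAut.conj_apply, ← MulAut.smul_def,
        Subgroup.smul_mem_pointwise_smul_iff]
    have h1 := hinv ⟨n * g, hN⟩⁻¹
    have hnz : n⁻¹ * f * n = f := by
      rw [mul_assoc, mem_centralizer_iff.1 hn f h.f_mem, inv_mul_cancel_left]
    rw [hFmk]
    simp only [Fx, dif_pos (hAg f h.f_mem)]
    refine Eq.trans (congrArg H (Subtype.ext ?_)) h1
    show g⁻¹ * f * g = (n * g)⁻¹ * f * ((n * g)⁻¹)⁻¹
    rw [inv_inv, show (n * g)⁻¹ * f * (n * g) = g⁻¹ * (n⁻¹ * f * n) * g by group, hnz]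
  have hfA : zpowers f ≤ A := zpowers_le.2 h.f_mem
  have htot := SylowKey.prod_eq_pow_card (p := p) h.pA F hFA c0 hfix
  obtain ⟨b, hb0, hb⟩ := h.ord_f
  have htr : MonoidHom.transfer H f = ∏ q, F q := by
    rw [MonoidHom.transfer_eq_prod_quotient_orbitRel_zpowers_quot,
      ← Finset.prod_fiberwise Finset.univ (Quotient.mk (orbitRel (zpowers f) (G ⧸ (P : Subgroup G)))) F]
    refine Finset.prod_congr rfl fun ω _ => ?_
    set q := ω.out with hq
    have hω : Quotient.mk _ q = ω := Quotient.out_eq ω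
    have hset : (Finset.univ.filter fun x => Quotient.mk (orbitRel (zpowers f) (G ⧸ (P : Subgroup G))) x = ω)
        = (orbit (zpowers f) q).toFinset := by
      ext x
      simp only [Finset.mem_filter, Finset.mem_univ, true_and, Set.mem_toFinset]
      rw [← hω, Quotient.eq]
      exact Iff.rfl
    rw [hset, Finset.prod_eq_pow_card (b := F q) fun x hx => by
      obtain ⟨a, rfl⟩ := Set.mem_toFinset.1 hx
      exact hFA ⟨a, hfA a.2⟩ q, Set.toFinset_card, ← Nat.card_eq_fintype_card,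
      show Nat.card (orbit (zpowers f) q) = Function.minimalPeriod (f • ·) q by
        exact Nat.card_eq_fintype_card.trans (MulAction.minimalPeriod_eq_card (a := f) (b := q)).symm]
    obtain ⟨k, hk⟩ : ∃ k, k = Function.minimalPeriod (f • ·) q := ⟨_, rfl⟩
    simp only [← hk]
    have hqg : F q = Fx q.out := by rw [← hFmk, QuotientGroup.out_eq']
    rcases eq_or_ne k 1 with h1 | h1
    · subst h1
      simp only [pow_one]
      rw [hqg]
      have hmem := QuotientGroup.out_conj_pow_minimalPeriod_mem (P : Subgroup G) f q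
      rw [← hk, pow_one] at hmem
      simp only [Fx, dif_pos hmem]
    · have hkd : k ∣ p ^ b := hb ▸ hk ▸ Function.IsPeriodicPt.minimalPeriod_dvd (by
        show (f • ·)^[orderOf f] q = q
        rw [smul_iterate, pow_orderOf_eq_one]
        exact one_smul _ q)
      obtain ⟨i, hib, hi⟩ := (Nat.dvd_prime_pow hp.out).1 hkd
      rcases i with - | i
      · exact absurd (by rw [hi, pow_zero]) h1
      have hr : ∀ x : Multiplicative (ZMod p), x ^ k = 1 := fun x => by
        refine Multiplicative.toAdd.injective ?_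
        rw [toAdd_pow, nsmul_eq_mul, (ZMod.natCast_eq_zero_iff k p).2 (hi ▸ dvd_pow_self p i.succ_ne_zero),
          zero_mul, toAdd_one]
      rw [hr]
      by_contra hne
      have h2 := hsmall _ hne (p ^ (b - 1)) (Subtype.ext ?_)
      · rw [hb, Nat.pow_dvd_pow_iff_le_right hp.out.one_lt] at h2
        omega
      · show (q.out⁻¹ * f ^ k * q.out) ^ p ^ (b - 1) = 1
        have h3 : (q.out⁻¹ * f ^ k * q.out) ^ p ^ (b - 1) = q.out⁻¹ * (f ^ k) ^ p ^ (b - 1) * q.out := by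
          have h4 := conj_pow (a := q.out⁻¹) (b := f ^ k) (i := p ^ (b - 1))
          rwa [inv_inv] at h4
        rw [h3, ← pow_mul, orderOf_dvd_iff_pow_eq_one.1 (?_ : orderOf f ∣ k * p ^ (b - 1)), mul_one,
          inv_mul_cancel]
        rw [hb, hi, ← pow_add]
        exact pow_dvd_pow p (by omega)
  rw [htr, htot, hc0, ← ofAdd_nsmul, nsmul_eq_mul, mul_one, Ne, ofAdd_eq_one,
    ZMod.natCast_eq_zero_iff, ← Nat.card_eq_fintype_card]
  exact P.not_dvd_index

/-- `PPartStatement` holds. -/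
theorem pPartStatement : PPartStatement.{u} := by
  intro G _ _ p _ f t c A l d h
  obtain ⟨c', l', h'⟩ := h.exists_data
  exact h'.exists_hom

end CfsgLib.Walter.Field
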