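import Cfsg.Agent.Lib.Recog.Walter.Field.PPart.Invol

/-!
Owner: helper19. Walter, field part: a `p`-group with an involutive automorphism `τ` whose fixed points are `⟨f⟩`
and a commuting automorphism `γ` which is the `l`-th power on the inverted part of `C(f)`, `l² ≢ 1`.
Its inverted elements commute, `γ` is the `l`-th power on them and they cover everything modulo `⟨f⟩`.
-/

set_option autoImplicit false
set_option linter.style.haveILetI false
set_option linter.unusedSectionVars false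

namespace CfsgLib.Walter.Field.PSplit

open Subgroup

universe u

/-- `y` conjugates `z` to a central-like multiple: the iterates. -/
theorem conj_pow_pow {H : Type u} [Group H] {x a c : H} (hcx : Commute c x) (hca : Commute c a)
    (h : x * a * x⁻¹ = c * a) (n m : ℕ) : x ^ n * a ^ m * (x ^ n)⁻¹ = c ^ (n * m) * a ^ m := by
  induction n with
  | zero => simp
  | succ n ih =>
    calc x ^ (n + 1) * a ^ m * (x ^ (n + 1))⁻¹ = x * (x ^ n * a ^ m * (x ^ n)⁻¹) * x⁻¹ := by
          rw [pow_succ']; group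
      _ = (x * c ^ (n * m) * x⁻¹) * (x * a ^ m * x⁻¹) := by rw [ih]; group
      _ = c ^ (n * m) * (c ^ m * a ^ m) := by
          rw [← (hcx.pow_left _).eq, mul_inv_cancel_right, ← conj_pow, h, hca.mul_pow]
      _ = c ^ ((n + 1) * m) * a ^ m := by rw [← mul_assoc, ← pow_add, add_mul, one_mul]

/-- The configuration. -/
structure Conf {N : Type u} [Group N] (p : ℕ) (τ γ : MulAut N) (f : N) (l d : ℕ) : Prop where
  pr : IsPGroup p N
  p_odd : p ≠ 2
  τ2 : ∀ x, τ (τ x) = x
  comm : ∀ x, τ (γ x) = γ (τ x)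
  γd : γ ^ d = 1
  ld : ∀ x : N, x ^ (l ^ d) = x
  d_cop : ¬ p ∣ d
  l0 : (l : ZMod p) ≠ 0
  l_sq : ((l * l : ℕ) : ZMod p) ≠ 1
  fixed : ∀ x, τ x = x ↔ x ∈ zpowers f
  γf : γ f = f
  cA : ∀ x y, Commute x f → Commute y f → Commute x y
  scal : ∀ x, Commute x f → τ x = x⁻¹ → γ x = x ^ l

/-- The conclusion. -/
structure Split {N : Type u} [Group N] (τ γ : MulAut N) (f : N) (l : ℕ) : Prop where
  comm : ∀ x y, τ x = x⁻¹ → τ y = y⁻¹ → Commute x y
  scal : ∀ x, τ x = x⁻¹ → γ x = x ^ l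
  cover : ∀ x, ∃ k a, τ k = k⁻¹ ∧ a ∈ zpowers f ∧ x = k * a

namespace Conf

variable {N : Type u} [Group N] [Finite N] {p l d : ℕ} [Fact p.Prime] {τ γ : MulAut N} {f : N}
  (h : Conf p τ γ f l d)
include h

theorem odd : Odd (Nat.card N) := by
  obtain ⟨k, hk⟩ := IsPGroup.iff_card.1 h.pr
  rw [hk]
  exact ((Fact.out : p.Prime).odd_of_ne_two h.p_odd).pow

theorem τf : τ f = f := (h.fixed f).2 (mem_zpowers f)

theorem commute_fixed {s : N} (hs : τ s = s) : Commute s f := by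
  obtain ⟨i, rfl⟩ := mem_zpowers_iff.1 ((h.fixed s).1 hs)
  exact Commute.zpow_left (Commute.refl f) i

theorem γ_fixed {s : N} (hs : τ s = s) : γ s = s := by
  obtain ⟨i, rfl⟩ := mem_zpowers_iff.1 ((h.fixed s).1 hs)
  rw [map_zpow, h.γf]

theorem eq_one_of_pow_eq {v : N} {m : ℕ} (hv : v ^ m = 1) (hm : (m : ZMod p) ≠ 0) : v = 1 := by
  obtain ⟨k, hk⟩ := h.pr v
  have hm' : ¬ p ∣ m := fun hd => hm ((ZMod.natCast_eq_zero_iff m p).2 hd)
  have hc : (p ^ k).Coprime m := (((Fact.out : p.Prime).coprime_iff_not_dvd).2 hm').pow_left k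
  have := pow_gcd_eq_one.mpr (⟨hk, hv⟩ : v ^ p ^ k = 1 ∧ v ^ m = 1)
  rwa [hc.gcd_eq_one, pow_one] at this

theorem eq_one_of_pow_l2 {v : N} (hv : v ^ (l * l) = v) : v = 1 := by
  have hl : 1 ≤ l * l := by
    rcases Nat.eq_zero_or_pos l with h0 | h0
    · exact absurd (by rw [h0, Nat.cast_zero]) h.l0
    · exact Nat.mul_pos h0 h0
  refine h.eq_one_of_pow_eq (m := l * l - 1) ?_ ?_
  · refine mul_right_cancel (b := v) ?_
    rw [← pow_succ, Nat.sub_add_cancel hl, one_mul, hv]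
  · rw [Nat.cast_sub hl, Nat.cast_one]
    exact sub_ne_zero.2 h.l_sq

/-- `γ x = x ^ l * v` with `v` carrying the same power forces `v = 1`. -/
theorem two_layer {x v : N} (hxv : Commute x v) (hx : γ x = x ^ l * v) (hv : γ v = v ^ l) : v = 1 := by
  have hit : ∀ n : ℕ, (γ ^ (n + 1)) x = x ^ l ^ (n + 1) * v ^ ((n + 1) * l ^ n) := by
    intro n
    induction n with
    | zero => simp [hx]
    | succ m ih =>
      rw [pow_succ', MulAut.mul_apply, ih, map_mul, map_pow, map_pow, hx, hv,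
        (hxv.pow_left l).mul_pow, ← pow_mul, ← pow_mul, mul_assoc, ← pow_add, ← pow_succ']
      congr 2
      ring
  rcases Nat.eq_zero_or_pos d with hd | hd
  · exact absurd (hd ▸ dvd_zero p) h.d_cop
  have hr := hit (d - 1)
  rw [Nat.sub_add_cancel hd, h.γd, MulAut.one_apply, h.ld, left_eq_mul] at hr
  refine h.eq_one_of_pow_eq hr ?_
  rw [Nat.cast_mul, Nat.cast_pow]
  exact mul_ne_zero (fun h0 => h.d_cop ((ZMod.natCast_eq_zero_iff d p).1 h0)) (pow_ne_zero _ h.l0)

theorem exists_split (x : N) : ∃ k s : N, x = k * s ∧ τ k = k⁻¹ ∧ τ s = s ∧ k ∈ zpowers (x * (τ x)⁻¹) :=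
  Invol.exists_split τ h.odd h.τ2 x

theorem inverted_eq_one {v : N} (hi : τ v = v⁻¹) (hf : τ v = v) : v = 1 :=
  Invol.eq_one_of_sq h.odd (by nth_rewrite 2 [← hf]; rw [hi, mul_inv_cancel])

end Conf

section Step

variable {N : Type u} [Group N] [Finite N] {p l d : ℕ} [Fact p.Prime] {τ γ : MulAut N} {f : N}

/-- The automorphism induced on the quotient by an invariant normal subgroup. -/
noncomputable def quot (α : MulAut N) (V : Subgroup N) [V.Normal]
    (hV : V.map (α : N ≃* N).toMonoidHom = V) : MulAut (N ⧸ V) :=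
  QuotientGroup.congr V V α hV

theorem quot_mk (α : MulAut N) (V : Subgroup N) [V.Normal] (hV : V.map (α : N ≃* N).toMonoidHom = V)
    (x : N) : quot α V hV (x : N ⧸ V) = ((α x : N) : N ⧸ V) := rfl

theorem map_eq {α : MulAut N} {V : Subgroup N} (hV : ∀ v ∈ V, α v ∈ V) :
    V.map (α : N ≃* N).toMonoidHom = V := by
  refine eq_of_le_of_card_ge ?_ (le_of_eq ?_)
  · rintro _ ⟨v, hv, rfl⟩; exact hV v hv
  · exact (Nat.card_congr (V.equivMapOfInjective _ α.injective).toEquiv)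

variable (h : Conf p τ γ f l d) (V : Subgroup N) [V.Normal]
  (hτ : V.map (τ : N ≃* N).toMonoidHom = V) (hγ : V.map (γ : N ≃* N).toMonoidHom = V)
include h

theorem odd_quot : Odd (Nat.card (N ⧸ V)) := Odd.of_dvd_nat h.odd (card_quotient_dvd_card V)

theorem quot_fixed (x : N ⧸ V) : quot τ V hτ x = x ↔ x ∈ zpowers (f : N ⧸ V) := by
  constructor
  · obtain ⟨x, rfl⟩ := QuotientGroup.mk_surjective x
    intro hx
    rw [quot_mk] at hx
    obtain ⟨v, hv, -, hs⟩ := Invol.exists_fixed_mod τ h.odd h.τ2 (V := V) (x := x) (by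
      rw [← QuotientGroup.eq_one_iff, QuotientGroup.mk_mul, QuotientGroup.mk_inv, hx, mul_inv_cancel])
    obtain ⟨i, hi⟩ := mem_zpowers_iff.1 ((h.fixed _).1 hs)
    refine mem_zpowers_iff.2 ⟨i, ?_⟩
    rw [← QuotientGroup.mk_zpow, hi, QuotientGroup.mk_mul, QuotientGroup.mk_inv,
      (QuotientGroup.eq_one_iff v).2 hv, inv_one, one_mul]
  · intro hx
    obtain ⟨i, rfl⟩ := mem_zpowers_iff.1 hx
    rw [map_zpow, quot_mk, h.τf]

/-- An inverted coset contains an inverted element. -/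
theorem exists_rep {x : N ⧸ V} (hx : quot τ V hτ x = x⁻¹) : ∃ k : N, τ k = k⁻¹ ∧ (k : N ⧸ V) = x := by
  obtain ⟨x, rfl⟩ := QuotientGroup.mk_surjective x
  obtain ⟨k, s, rfl, hk, hs, -⟩ := h.exists_split x
  refine ⟨k, hk, ?_⟩
  have h1 : (s : N ⧸ V) = 1 := Invol.fixed_eq_one (quot τ V hτ) (odd_quot h V)
    (x := (k : N ⧸ V)) (by rw [quot_mk, hk, QuotientGroup.mk_inv])
    (by rw [quot_mk, hs]) (by rw [← QuotientGroup.mk_mul]; exact hx)
  rw [QuotientGroup.mk_mul, h1, mul_one]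

theorem quot_conf (hC : ∀ x y : N ⧸ V, Commute x (f : N ⧸ V) → Commute y (f : N ⧸ V) → Commute x y)
    (hS : ∀ x : N ⧸ V, Commute x (f : N ⧸ V) → quot τ V hτ x = x⁻¹ → quot γ V hγ x = x ^ l) :
    Conf p (quot τ V hτ) (quot γ V hγ) (f : N ⧸ V) l d where
  pr := h.pr.to_quotient V
  p_odd := h.p_odd
  τ2 x := by
    obtain ⟨x, rfl⟩ := QuotientGroup.mk_surjective x
    rw [quot_mk, quot_mk, h.τ2]
  comm x := by
    obtain ⟨x, rfl⟩ := QuotientGroup.mk_surjective x
    rw [quot_mk, quot_mk, quot_mk, quot_mk, h.comm]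
  γd := by
    have hn : ∀ (n : ℕ) (x : N), (quot γ V hγ ^ n) (x : N ⧸ V) = (((γ ^ n) x : N) : N ⧸ V) := by
      intro n
      induction n with
      | zero => intro x; rfl
      | succ m ih => intro x; rw [pow_succ, MulAut.mul_apply, quot_mk, ih, ← MulAut.mul_apply, ← pow_succ]
    ext x
    obtain ⟨x, rfl⟩ := QuotientGroup.mk_surjective x
    rw [hn, h.γd]; rfl
  ld x := by
    obtain ⟨x, rfl⟩ := QuotientGroup.mk_surjective x
    rw [← QuotientGroup.mk_pow, h.ld]
  d_cop := h.d_cop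
  l0 := h.l0
  l_sq := h.l_sq
  fixed := quot_fixed h V hτ
  γf := by rw [quot_mk, h.γf]
  cA := hC
  scal := hS

omit h in
theorem comm_mem {y : N} (hy : Commute (y : N ⧸ V) (f : N ⧸ V)) : y * f * y⁻¹ * f⁻¹ ∈ V := by
  rw [← QuotientGroup.eq_one_iff, QuotientGroup.mk_mul, QuotientGroup.mk_mul, QuotientGroup.mk_mul, hy.eq,
    QuotientGroup.mk_inv, QuotientGroup.mk_inv, mul_inv_cancel_right, mul_inv_cancel]

theorem commute_mk_f {x : N} (hx : Commute x f) : Commute (x : N ⧸ V) (f : N ⧸ V) := by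
  show (x : N ⧸ V) * f = f * x
  rw [← QuotientGroup.mk_mul, hx.eq, QuotientGroup.mk_mul]

/-- A central subgroup of fixed elements: the quotient. -/
theorem quot_conf_fixed (hc : V ≤ center N) (hV : ∀ v ∈ V, τ v = v) :
    Conf p (quot τ V hτ) (quot γ V hγ) (f : N ⧸ V) l d := by
  have key : ∀ x : N, Commute (x : N ⧸ V) (f : N ⧸ V) → Commute x f := by
    intro x hx
    obtain ⟨k, s, rfl, hk, hs, -⟩ := h.exists_split x
    refine Commute.mul_left ?_ (h.commute_fixed hs)
    set v := k * s * f * (k * s)⁻¹ * f⁻¹ with hv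
    have hvV : v ∈ V := comm_mem V hx
    have hv' : v = k * f * k⁻¹ * f⁻¹ := by
      rw [hv, mul_inv_rev, mul_assoc k s, (h.commute_fixed hs).eq]
      group
    have h1 := hV v hvV
    nth_rewrite 1 [hv'] at h1
    rw [map_mul, map_mul, map_mul, map_inv, map_inv, hk, h.τf, inv_inv] at h1
    have h2 : k * f * k⁻¹ = v * f := by rw [hv', inv_mul_cancel_right]
    have h3 : v * v = 1 := by
      have h4 : k⁻¹ * f * k = v * f := by rw [← h1, inv_mul_cancel_right]
      have h5 : f = v * (v * f) := by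
        calc f = k * (k⁻¹ * f * k) * k⁻¹ := by group
          _ = (k * v * k⁻¹) * (k * f * k⁻¹) := by rw [h4]; group
          _ = v * (v * f) := by rw [mem_center_iff.1 (hc hvV) k, mul_inv_cancel_right, h2]
      rw [← mul_assoc] at h5
      exact mul_right_cancel (b := f) (by rw [← h5, one_mul])
    have h6 := Invol.eq_one_of_sq h.odd h3
    rw [h6, one_mul, mul_inv_eq_iff_eq_mul] at h2
    exact h2
  refine quot_conf h V hτ hγ (fun x y hx hy => ?_) (fun x hx hi => ?_)
  · obtain ⟨x, rfl⟩ := QuotientGroup.mk_surjective x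
    obtain ⟨y, rfl⟩ := QuotientGroup.mk_surjective y
    show (x : N ⧸ V) * y = y * x
    rw [← QuotientGroup.mk_mul, (h.cA x y (key x hx) (key y hy)).eq, QuotientGroup.mk_mul]
  · obtain ⟨k, hk, rfl⟩ := exists_rep h V hτ hi
    rw [quot_mk, h.scal k (key k hx) hk, QuotientGroup.mk_pow]

/-- The center without fixed elements: the quotient. -/
theorem quot_conf_inverted (hc : V ≤ center N) (hV : ∀ v ∈ V, τ v = v⁻¹) :
    Conf p (quot τ V hτ) (quot γ V hγ) (f : N ⧸ V) l d := by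
  set τ' := quot τ V hτ with hτ'
  set γ' := quot γ V hγ with hγ'
  set f' : N ⧸ V := (f : N ⧸ V)
  have hQ := odd_quot h V
  have hτ2 : ∀ x, τ' (τ' x) = x := fun x => by
    obtain ⟨x, rfl⟩ := QuotientGroup.mk_surjective x
    rw [hτ', quot_mk, quot_mk, h.τ2]
  have hτf : τ' f' = f' := by rw [hτ']; exact (quot_fixed h V hτ _).2 (mem_zpowers _)
  -- `γ x = x ^ l * b * s` with `b` the image of an inverted element of `C(f)`
  have hdec : ∀ x : N ⧸ V, Commute x f' → τ' x = x⁻¹ → ∃ a : N, ∃ s ∈ zpowers f',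
      Commute a f ∧ τ a = a⁻¹ ∧ γ' x = x ^ l * ((a : N ⧸ V) * s) := by
    intro x hx hi
    obtain ⟨k, hk, rfl⟩ := exists_rep h V hτ hi
    set v := k * f * k⁻¹ * f⁻¹ with hv
    have hvV : v ∈ V := comm_mem V hx
    have hvc := mem_center_iff.1 (hc hvV)
    have hkf : k * f * k⁻¹ = v * f := by rw [hv, inv_mul_cancel_right]
    have hγv : γ v = v ^ l := h.scal v (hvc f).symm (hV v hvV)
    have h1 : γ k * f * (γ k)⁻¹ = v ^ l * f := by
      have := congrArg γ hkf
      rwa [map_mul, map_mul, map_mul, map_inv, h.γf, hγv] at this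
    have h2 := conj_pow_pow (show Commute v k from (hvc k).symm) (show Commute v f from (hvc f).symm) hkf l 1
    rw [pow_one, mul_one] at h2
    set w := (k ^ l)⁻¹ * γ k with hw
    have hwf : Commute w f := by
      show w * f = f * w
      calc w * f = (k ^ l)⁻¹ * (γ k * f * (γ k)⁻¹) * γ k := by rw [hw]; group
        _ = (k ^ l)⁻¹ * (k ^ l * f * (k ^ l)⁻¹) * γ k := by rw [h1, h2]
        _ = f * w := by rw [hw]; group
    obtain ⟨a, s, hws, ha, hs, hmem⟩ := h.exists_split w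
    refine ⟨a, s, ?_, ?_, ha, ?_⟩
    · obtain ⟨i, rfl⟩ := mem_zpowers_iff.1 ((h.fixed s).1 hs)
      exact mem_zpowers_iff.2 ⟨i, rfl⟩
    · obtain ⟨i, rfl⟩ := mem_zpowers_iff.1 hmem
      refine (Commute.mul_left hwf (Commute.inv_left ?_)).zpow_left i
      show τ w * f = f * τ w
      have := congrArg τ hwf.eq
      rwa [map_mul τ w f, map_mul τ f w, h.τf] at this
    · rw [hγ', quot_mk, ← QuotientGroup.mk_mul, ← hws, ← QuotientGroup.mk_pow, ← QuotientGroup.mk_mul, hw,
        mul_inv_cancel_left]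
  -- commutators of inverted elements of `C(f')` are fixed
  have hF : ∀ x y : N ⧸ V, Commute x f' → Commute y f' → τ' x = x⁻¹ → τ' y = y⁻¹ →
      x * y * x⁻¹ * y⁻¹ ∈ zpowers f' := by
    intro x y hx hy hix hiy
    obtain ⟨k, s, hks, hk, hs, -⟩ := Invol.exists_split τ' hQ hτ2 (x⁻¹ * y⁻¹)
    have hsm : s ∈ zpowers f' := (quot_fixed h V hτ s).1 hs
    obtain ⟨i, hi⟩ := mem_zpowers_iff.1 hsm
    have hcs : Commute (x⁻¹ * y⁻¹) s := hi ▸ (hx.inv_left.mul_left hy.inv_left).zpow_right i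
    have h1 := congrArg τ' hks
    rw [map_mul, map_mul, map_inv, map_inv, hix, hiy, inv_inv, inv_inv, hk, hs] at h1
    have h2 : k⁻¹ = s * (x⁻¹ * y⁻¹)⁻¹ := by rw [hks]; group
    rw [h2, (hcs.inv_left.symm).eq, mul_inv_rev, inv_inv, inv_inv, mul_assoc] at h1
    have h3 : x * y * x⁻¹ * y⁻¹ = y * x * (s * s) * x⁻¹ * y⁻¹ := by rw [h1]
    rw [h3]
    have hcs2 : Commute (y * x) (s * s) := by
      have := hcs.inv_left
      rw [mul_inv_rev, inv_inv, inv_inv] at this
      exact this.mul_right this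
    rw [hcs2.eq]
    convert mul_mem hsm hsm using 1
    group
  have hγF : ∀ c ∈ zpowers f', γ' c = c := fun c hcm => by
    obtain ⟨i, rfl⟩ := mem_zpowers_iff.1 hcm
    rw [map_zpow, hγ', quot_mk, h.γf]
  have hcF : ∀ c ∈ zpowers f', ∀ x : N ⧸ V, Commute x f' → Commute c x := fun c hcm x hx => by
    obtain ⟨i, rfl⟩ := mem_zpowers_iff.1 hcm
    exact (hx.zpow_right i).symm
  -- the bilinear step
  have hbil : ∀ x y wx wy : N ⧸ V, Commute x f' → Commute y f' → τ' x = x⁻¹ → τ' y = y⁻¹ →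
      γ' x = x ^ l * wx → γ' y = y ^ l * wy → Commute wx y → Commute wy x → Commute wx wy → Commute x y := by
    intro x y wx wy hx hy hix hiy hgx hgy c1 c2 c3
    set c := x * y * x⁻¹ * y⁻¹ with hc0
    have hcm := hF x y hx hy hix hiy
    have hxy : x * y * x⁻¹ = c * y := by rw [hc0, inv_mul_cancel_right]
    have h1 := congrArg γ' hxy
    rw [map_mul, map_mul, map_mul, map_inv, hγF c hcm, hgx, hgy] at h1
    have h2 := conj_pow_pow (hcF c hcm x hx) (hcF c hcm y hy) hxy l l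
    have h3 : x ^ l * wx * (y ^ l * wy) * (x ^ l * wx)⁻¹ = c ^ (l * l) * y ^ l * wy := by
      calc x ^ l * wx * (y ^ l * wy) * (x ^ l * wx)⁻¹
          = x ^ l * (wx * (y ^ l * wy) * wx⁻¹) * (x ^ l)⁻¹ := by group
        _ = x ^ l * y ^ l * (wy * (x ^ l)⁻¹) := by
            rw [((c1.pow_right l).mul_right c3).eq, mul_inv_cancel_right]; group
        _ = (x ^ l * y ^ l * (x ^ l)⁻¹) * wy := by rw [((c2.pow_right l).inv_right).eq]; group
        _ = c ^ (l * l) * y ^ l * wy := by rw [h2]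
    rw [h3, mul_assoc] at h1
    have h4 := mul_right_cancel h1
    obtain ⟨c₀, hc₀⟩ := QuotientGroup.mk_surjective c
    have h5 : c = 1 := by
      have hl : 1 ≤ l * l := by
        rcases Nat.eq_zero_or_pos l with h0 | h0
        · exact absurd (by rw [h0, Nat.cast_zero]) h.l0
        · exact Nat.mul_pos h0 h0
      have h6 : c ^ (l * l - 1) = 1 := mul_right_cancel (b := c) (by
        rw [← pow_succ, Nat.sub_add_cancel hl, one_mul, h4])
      obtain ⟨k, hk⟩ := h.pr.to_quotient V c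
      have hm' : ¬ p ∣ l * l - 1 := fun hd => by
        have := (ZMod.natCast_eq_zero_iff (l * l - 1) p).2 hd
        rw [Nat.cast_sub hl, Nat.cast_one] at this
        exact h.l_sq (sub_eq_zero.1 this)
      have hcop : (p ^ k).Coprime (l * l - 1) :=
        (((Fact.out : p.Prime).coprime_iff_not_dvd).2 hm').pow_left k
      have := pow_gcd_eq_one.mpr (⟨hk, h6⟩ : c ^ p ^ k = 1 ∧ c ^ (l * l - 1) = 1)
      rwa [hcop.gcd_eq_one, pow_one] at this
    rw [h5, one_mul, mul_inv_eq_iff_eq_mul] at hxy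
    exact hxy
  -- images of inverted elements of `C(f)`
  have hBf : ∀ a : N, Commute a f → Commute (a : N ⧸ V) f' := fun a ha => commute_mk_f h V ha
  have hBi : ∀ a : N, τ a = a⁻¹ → τ' (a : N ⧸ V) = ((a : N ⧸ V))⁻¹ := fun a ha => by
    rw [hτ', quot_mk, ha, QuotientGroup.mk_inv]
  have hBγ : ∀ a : N, Commute a f → τ a = a⁻¹ → γ' (a : N ⧸ V) = (a : N ⧸ V) ^ l := fun a ha hi => by
    rw [hγ', quot_mk, h.scal a ha hi, QuotientGroup.mk_pow]
  have hBB : ∀ a b : N, Commute a f → Commute b f → Commute (a : N ⧸ V) (b : N ⧸ V) := fun a b ha hb => by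
    show (a : N ⧸ V) * b = b * a
    rw [← QuotientGroup.mk_mul, (h.cA a b ha hb).eq, QuotientGroup.mk_mul]
  have hxa : ∀ x : N ⧸ V, Commute x f' → τ' x = x⁻¹ → ∀ a : N, Commute a f → τ a = a⁻¹ →
      Commute x (a : N ⧸ V) := by
    intro x hx hi a ha hai
    obtain ⟨b, s, hs, hb, hbi, hgx⟩ := hdec x hx hi
    exact hbil x a _ 1 hx (hBf a ha) hi (hBi a hai) hgx (by rw [mul_one]; exact hBγ a ha hai)
      ((hBB b a hb ha).mul_left (hcF s hs _ (hBf a ha))) (Commute.one_left x) (Commute.one_right _)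
  have hinv : ∀ x y : N ⧸ V, Commute x f' → Commute y f' → τ' x = x⁻¹ → τ' y = y⁻¹ → Commute x y := by
    intro x y hx hy hix hiy
    obtain ⟨a, s, hs, ha, hai, hgx⟩ := hdec x hx hix
    obtain ⟨b, s', hs', hb, hbi, hgy⟩ := hdec y hy hiy
    exact hbil x y _ _ hx hy hix hiy hgx hgy
      ((hxa y hy hiy a ha hai).symm.mul_left (hcF s hs _ hy))
      ((hxa x hx hix b hb hbi).symm.mul_left (hcF s' hs' _ hx))
      (((hBB a b ha hb).mul_right (hcF s' hs' _ (hBf a ha)).symm).mul_left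
        ((hcF s hs _ ((hBf b hb).mul_left (show Commute s' f' from by
          obtain ⟨i, rfl⟩ := mem_zpowers_iff.1 hs'
          exact (Commute.refl f').zpow_left i)))))
  refine quot_conf h V hτ hγ (fun x y hx hy => ?_) (fun x hx hi => ?_)
  · have hsplit : ∀ z : N ⧸ V, Commute z f' →
        ∃ k s, z = k * s ∧ τ' k = k⁻¹ ∧ Commute k f' ∧ s ∈ zpowers f' := by
      intro z hz
      obtain ⟨k, s, hks, hk, hs, -⟩ := Invol.exists_split τ' hQ hτ2 z
      have hsm := (quot_fixed h V hτ s).1 hs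
      refine ⟨k, s, hks, hk, ?_, hsm⟩
      have : k = z * s⁻¹ := by rw [hks, mul_inv_cancel_right]
      obtain ⟨i, rfl⟩ := mem_zpowers_iff.1 hsm
      rw [this]
      exact hz.mul_left (((Commute.refl f').zpow_left i).inv_left)
    obtain ⟨k, s, rfl, hk, hkf, hs⟩ := hsplit x hx
    obtain ⟨k', s', rfl, hk', hkf', hs'⟩ := hsplit y hy
    exact ((hinv k k' hkf hkf' hk hk').mul_right (hcF s' hs' k hkf).symm).mul_left (hcF s hs _ hy)
  · obtain ⟨a, s, hs, ha, hai, hgx⟩ := hdec x hx hi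
    have hxa' := hxa x hx hi a ha hai
    have hsx := hcF s hs x hx
    have hsa := hcF s hs _ (hBf a ha)
    have hy : τ' (x ^ l * (a : N ⧸ V)) = (x ^ l * (a : N ⧸ V))⁻¹ := by
      rw [map_mul, map_pow, hi, hBi a hai, inv_pow, (hxa'.pow_left l).eq, mul_inv_rev]
    have hgi : τ' (γ' x) = (γ' x)⁻¹ := by
      obtain ⟨x, rfl⟩ := QuotientGroup.mk_surjective x
      rw [hτ', hγ', quot_mk, quot_mk, h.comm, ← quot_mk γ V hγ (τ x), ← quot_mk τ V hτ x, ← hτ', hi,
        map_inv, quot_mk]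
    rw [hgx, ← mul_assoc] at hgi
    have hs1 : s = 1 := Invol.fixed_eq_one τ' hQ hy ((quot_fixed h V hτ s).2 hs) hgi
    rw [hs1, mul_one] at hgx
    have ha1 : (a : N ⧸ V) = 1 := by
      have hit : ∀ n : ℕ, (γ' ^ (n + 1)) x = x ^ l ^ (n + 1) * (a : N ⧸ V) ^ ((n + 1) * l ^ n) := by
        intro n
        induction n with
        | zero => simp [hgx]
        | succ m ih =>
          rw [pow_succ', MulAut.mul_apply, ih, map_mul, map_pow, map_pow, hgx, hBγ a ha hai,
            (hxa'.pow_left l).mul_pow, ← pow_mul, ← pow_mul, mul_assoc, ← pow_add, ← pow_succ']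
          congr 2
          ring
      rcases Nat.eq_zero_or_pos d with hd | hd
      · exact absurd (hd ▸ dvd_zero p) h.d_cop
      have hr := hit (d - 1)
      have hγd : ∀ (n : ℕ) (x : N), (γ' ^ n) (x : N ⧸ V) = (((γ ^ n) x : N) : N ⧸ V) := by
        intro n
        induction n with
        | zero => intro x; rfl
        | succ m ih => intro x; rw [pow_succ, MulAut.mul_apply, hγ', quot_mk, ← hγ', ih, ← MulAut.mul_apply,
            ← pow_succ]
      obtain ⟨x₀, hx₀⟩ := QuotientGroup.mk_surjective x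
      rw [Nat.sub_add_cancel hd, ← hx₀, hγd, h.γd, MulAut.one_apply, ← QuotientGroup.mk_pow _ x₀, h.ld,
        left_eq_mul] at hr
      obtain ⟨k, hk⟩ := h.pr.to_quotient V (a : N ⧸ V)
      have hm' : ¬ p ∣ d * l ^ (d - 1) := fun hdv => by
        rcases (Fact.out : p.Prime).dvd_mul.1 hdv with h1 | h1
        · exact h.d_cop h1
        · exact h.l0 ((ZMod.natCast_eq_zero_iff l p).2 ((Fact.out : p.Prime).dvd_of_dvd_pow h1))
      have hcop : (p ^ k).Coprime (d * l ^ (d - 1)) :=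
        (((Fact.out : p.Prime).coprime_iff_not_dvd).2 hm').pow_left k
      have := pow_gcd_eq_one.mpr
        (⟨hk, hr⟩ : (a : N ⧸ V) ^ p ^ k = 1 ∧ (a : N ⧸ V) ^ (d * l ^ (d - 1)) = 1)
      rwa [hcop.gcd_eq_one, pow_one] at this
    rw [hgx, ha1, mul_one]

theorem split_of_quot (hc : V ≤ center N) (hV : (∀ v ∈ V, τ v = v) ∨ ∀ v ∈ V, τ v = v⁻¹)
    (hS : Split (quot τ V hτ) (quot γ V hγ) (f : N ⧸ V) l) : Split τ γ f l := by
  have hlift : ∀ k : N, τ k = k⁻¹ → quot τ V hτ (k : N ⧸ V) = (k : N ⧸ V)⁻¹ := fun k hk => by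
    rw [quot_mk, hk, QuotientGroup.mk_inv]
  have hscal : ∀ k : N, τ k = k⁻¹ → ∃ v ∈ V, γ k = k ^ l * v := fun k hk => by
    refine ⟨(k ^ l)⁻¹ * γ k, ?_, (mul_inv_cancel_left _ _).symm⟩
    rw [← QuotientGroup.eq, QuotientGroup.mk_pow, ← hS.scal _ (hlift k hk), quot_mk]
  have hinv_γ : ∀ k : N, τ k = k⁻¹ → τ (γ k) = (γ k)⁻¹ := fun k hk => by
    rw [h.comm, hk, map_inv]
  have hprod : ∀ x y : N, τ x = x⁻¹ → τ y = y⁻¹ → Commute x y := by
    intro x y hx hy
    have hq := hS.comm _ _ (hlift x hx) (hlift y hy)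
    set c := x * y * x⁻¹ * y⁻¹ with hc0
    have hcV : c ∈ V := by
      rw [← QuotientGroup.eq_one_iff, QuotientGroup.mk_mul, QuotientGroup.mk_mul, QuotientGroup.mk_mul, hq.eq,
        QuotientGroup.mk_inv, QuotientGroup.mk_inv, mul_inv_cancel_right, mul_inv_cancel]
    rcases hV with hfix | hinv
    · obtain ⟨v, hv, hgx⟩ := hscal x hx
      obtain ⟨w, hw, hgy⟩ := hscal y hy
      have hcc := mem_center_iff.1 (hc hcV)
      have hxy : x * y * x⁻¹ = c * y := by rw [hc0, inv_mul_cancel_right]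
      have h1 := congrArg γ hxy
      rw [map_mul, map_mul, map_mul, map_inv, h.γ_fixed (hfix c hcV), hgx, hgy] at h1
      have h2 := conj_pow_pow (show Commute c x from (hcc x).symm) (show Commute c y from (hcc y).symm) hxy l l
      have h3 : x ^ l * v * (y ^ l * w) * (x ^ l * v)⁻¹ = c ^ (l * l) * y ^ l * w := by
        calc x ^ l * v * (y ^ l * w) * (x ^ l * v)⁻¹
            = x ^ l * (v * (y ^ l * w) * v⁻¹) * (x ^ l)⁻¹ := by group
          _ = x ^ l * y ^ l * (w * (x ^ l)⁻¹) := by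
              rw [← mem_center_iff.1 (hc hv) (y ^ l * w), mul_inv_cancel_right]; group
          _ = (x ^ l * y ^ l * (x ^ l)⁻¹) * w := by rw [← mem_center_iff.1 (hc hw) (x ^ l)⁻¹]; group
          _ = c ^ (l * l) * y ^ l * w := by rw [h2]
      rw [h3, mul_assoc] at h1
      have h4 := h.eq_one_of_pow_l2 (mul_right_cancel h1)
      rw [h4, one_mul, mul_inv_eq_iff_eq_mul] at hxy
      exact hxy
    · obtain ⟨k, s, hks, hk, hs, -⟩ := h.exists_split (x * y)
      have hq1 : quot τ V hτ ((k : N ⧸ V) * (s : N ⧸ V)) = ((k : N ⧸ V) * (s : N ⧸ V))⁻¹ := by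
        rw [← QuotientGroup.mk_mul, ← hks, QuotientGroup.mk_mul, map_mul, hlift x hx, hlift y hy,
          mul_inv_rev, (hq.inv_inv).eq]
      have hs1 : (s : N ⧸ V) = 1 := Invol.fixed_eq_one (quot τ V hτ) (odd_quot h V) (hlift k hk)
        (by rw [quot_mk, hs]) hq1
      have hs2 : s = 1 := h.inverted_eq_one (hinv s ((QuotientGroup.eq_one_iff s).1 hs1)) hs
      rw [hs2, mul_one] at hks
      rw [← hks, map_mul, hx, hy, ← mul_inv_rev] at hk
      exact (inv_inj.1 hk).symm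
  refine ⟨hprod, fun x hx => ?_, fun x => ?_⟩
  · obtain ⟨v, hv, hgx⟩ := hscal x hx
    rcases hV with hfix | hinv
    · have h1 := hinv_γ x hx
      rw [hgx] at h1
      have hxl : τ (x ^ l) = (x ^ l)⁻¹ := by rw [map_pow, hx, inv_pow]
      rw [hgx, Invol.fixed_eq_one τ h.odd hxl (hfix v hv) h1, mul_one]
    · have hvc := mem_center_iff.1 (hc hv)
      rw [hgx, h.two_layer (hvc x) hgx (h.scal v (hvc f).symm (hinv v hv)), mul_one]
  · obtain ⟨k', a', hk', ha', hxk⟩ := hS.cover (x : N ⧸ V)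
    obtain ⟨k, hk, rfl⟩ := exists_rep h V hτ hk'
    obtain ⟨i, rfl⟩ := mem_zpowers_iff.1 ha'
    rw [← QuotientGroup.mk_zpow, ← QuotientGroup.mk_mul, eq_comm, QuotientGroup.eq] at hxk
    set v := (k * f ^ i)⁻¹ * x with hv0
    have hvc := mem_center_iff.1 (hc hxk)
    have hx : x = k * f ^ i * v := (mul_inv_cancel_left _ _).symm
    rcases hV with hfix | hinv
    · exact ⟨k, f ^ i * v, hk, mul_mem (zpow_mem (mem_zpowers f) i) ((h.fixed v).1 (hfix v hxk)),
        by rw [hx, mul_assoc]⟩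
    · refine ⟨k * v, f ^ i, ?_, zpow_mem (mem_zpowers f) i, ?_⟩
      · rw [map_mul, hk, hinv v hxk, ← mul_inv_rev, ← hvc k]
      · rw [hx, mul_assoc, hvc (f ^ i), ← mul_assoc]

end Step

/-- The theorem. -/
theorem Conf.split {N : Type u} [Group N] [Finite N] {p l d : ℕ} [hp : Fact p.Prime] {τ γ : MulAut N}
    {f : N} (h : Conf p τ γ f l d) : Split τ γ f l := by
  induction' hn : Nat.card N using Nat.strong_induction_on with n ih generalizing N
  rcases subsingleton_or_nontrivial N with hs | hs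
  · exact ⟨fun x y _ _ => Subsingleton.elim _ _, fun x _ => Subsingleton.elim _ _,
      fun x => ⟨1, 1, by simp, one_mem _, Subsingleton.elim _ _⟩⟩
  haveI := h.pr.center_nontrivial
  have hτc : ∀ v ∈ center N, τ v ∈ center N := fun v hv => mem_center_iff.2 fun g => by
    obtain ⟨g, rfl⟩ := τ.surjective g
    rw [← map_mul, ← map_mul, mem_center_iff.1 hv g]
  have hγc : ∀ v ∈ center N, γ v ∈ center N := fun v hv => mem_center_iff.2 fun g => by
    obtain ⟨g, rfl⟩ := γ.surjective g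
    rw [← map_mul, ← map_mul, mem_center_iff.1 hv g]
  have main : ∀ (V : Subgroup N) [V.Normal] (hτ : V.map (τ : N ≃* N).toMonoidHom = V)
      (hγ : V.map (γ : N ≃* N).toMonoidHom = V), V ≠ ⊥ → V ≤ center N →
      ((∀ v ∈ V, τ v = v) ∨ ∀ v ∈ V, τ v = v⁻¹) → Split τ γ f l := by
    intro V _ hτ hγ hne hc hV
    have hlt : Nat.card (N ⧸ V) < n := by
      rw [← hn, card_eq_card_quotient_mul_card_subgroup V]
      exact lt_mul_of_one_lt_right Nat.card_pos ((one_lt_card_iff_ne_bot V).2 hne)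
    refine split_of_quot h V hτ hγ hc hV (ih _ hlt ?_ rfl)
    rcases hV with hV | hV
    · exact quot_conf_fixed h V hτ hγ hc hV
    · exact quot_conf_inverted h V hτ hγ hc hV
  by_cases hex : ∃ z ∈ center N, z ≠ 1 ∧ τ z = z
  · obtain ⟨z, hz, hz1, hτz⟩ := hex
    haveI : (zpowers z).Normal := ⟨fun v hv g => by
      rw [mem_center_iff.1 (zpowers_le.2 hz hv) g, mul_inv_cancel_right]; exact hv⟩
    have hfix : ∀ v ∈ zpowers z, τ v = v := fun v hv => by
      obtain ⟨i, rfl⟩ := mem_zpowers_iff.1 hv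
      rw [map_zpow, hτz]
    exact main (zpowers z) (map_eq fun v hv => by rw [hfix v hv]; exact hv)
      (map_eq fun v hv => by rw [h.γ_fixed (hfix v hv)]; exact hv)
      (fun hb => hz1 (zpowers_eq_bot.1 hb)) (zpowers_le.2 hz) (Or.inl hfix)
  · push Not at hex
    exact main (center N) (map_eq hτc) (map_eq hγc)
      ((nontrivial_iff_ne_bot _).1 inferInstance) le_rfl (Or.inr fun v hv =>
        Invol.inverts_of_free τ h.odd h.τ2 hτc (fun x hx hf => by
          by_contra h1; exact hex x hx h1 hf) hv)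

end CfsgLib.Walter.Field.PSplit
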