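import Cfsg.Agent.Lib.Recog.Walter.Field.PPart.Defs
import Cfsg.Agent.Lib.Recog.Walter.Field.PPart.Split
import Cfsg.Agent.Lib.Recog.Walter.Field.SylowKey.Fusion

/-!
Owner: helper19. Walter, field part: the `p`-subgroups over `A` normalised by `t` and by a `p'`-element acting as `c`.
-/

set_option autoImplicit false
set_option linter.style.haveILetI false
set_option linter.unusedSectionVars false

namespace CfsgLib.Walter.Field

open Subgroup

universe u

/-- Iterated conjugation. -/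
theorem conj_iterate {G : Type u} [Group G] (c a : G) (n : ℕ) :
    c ^ (n + 1) * a * (c ^ (n + 1))⁻¹ = c * (c ^ n * a * (c ^ n)⁻¹) * c⁻¹ := by
  rw [pow_succ', mul_inv_rev]; group

/-- A finite set closed under conjugation by `c` is normalised by `c`. -/
theorem mem_normalizer_of_conj {G : Type u} [Group G] [Finite G] {D : Subgroup G} {c : G}
    (hc : ∀ x ∈ D, c * x * c⁻¹ ∈ D) : c ∈ normalizer (D : Set G) := by
  refine mem_normalizer_iff.2 fun x => ⟨hc x, fun hx => ?_⟩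
  have hn : ∀ n : ℕ, c ^ n * (c * x * c⁻¹) * (c ^ n)⁻¹ ∈ D := by
    intro n
    induction n with
    | zero => simpa using hx
    | succ m ih => rw [conj_iterate]; exact hc _ ih
  have h1 := hn (orderOf c - 1)
  rwa [show c ^ (orderOf c - 1) * (c * x * c⁻¹) * (c ^ (orderOf c - 1))⁻¹
      = c ^ orderOf c * x * (c ^ orderOf c)⁻¹ by
    conv_rhs => rw [← Nat.sub_add_cancel (orderOf_pos c), pow_succ]
    group, pow_orderOf_eq_one, one_mul, inv_one, mul_one] at h1

/-- `PPart` with `c` of order prime to `p` and an exact exponent. -/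
structure PData {G : Type u} [Group G] (p : ℕ) (f t c : G) (A : Subgroup G) (l d : ℕ) : Prop
    extends PPart p f t c A l d where
  c_cop : ¬ p ∣ orderOf c
  ld : ∀ x : G, (∃ k : ℕ, x ^ p ^ k = 1) → x ^ (l ^ d) = x

/-- A `p`-subgroup over `A` normalised by `t` and by a `p'`-element of `C(f, t)` acting as `c` on `A`. -/
structure PGood {G : Type u} [Group G] (p : ℕ) (f t c : G) (A D : Subgroup G) (c' : G) : Prop where
  pr : IsPGroup p D
  le : A ≤ D
  nt : t ∈ normalizer (D : Set G)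
  cen : Commute c' f
  ct : Commute c' t
  act : ∀ a ∈ A, c' * a * c'⁻¹ = c * a * c⁻¹
  norm : c' ∈ normalizer (D : Set G)
  coprime : ¬ p ∣ orderOf c'

variable {G : Type u} [Group G] [Finite G] {p l d : ℕ} [Fact p.Prime] {f t c : G} {A : Subgroup G}

namespace PPart

variable (h : PPart p f t c A l d)
include h

theorem t_sq : t * t = 1 := by
  rw [← pow_two, ← h.ord_t, pow_orderOf_eq_one]

theorem t_inv : t⁻¹ = t := inv_eq_of_mul_eq_one_right h.t_sq

theorem odd_A : Odd (Nat.card A) := by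
  obtain ⟨k, hk⟩ := IsPGroup.iff_card.1 h.pA
  rw [hk]
  exact ((Fact.out : p.Prime).odd_of_ne_two h.p_odd).pow

/-- An element of the centraliser of `f` in a `p`-group over `A` is in `A`. -/
theorem mem_A {Q : Subgroup G} (hQ : IsPGroup p Q) (hA : A ≤ Q) {x : G} (hx : x ∈ Q) (hxf : Commute x f) :
    x ∈ A := by
  set S := Q ⊓ centralizer ({f} : Set G) with hS
  obtain ⟨u, -, hu⟩ := h.maxA S (hQ.to_le inf_le_left) fun y hy => mem_centralizer_singleton_iff.1 hy.2
  have hle : A ≤ S := le_inf hA fun a ha => mem_centralizer_singleton_iff.2 (h.comm a ha f h.f_mem)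
  have heq : A = S := eq_of_le_of_card_ge hle (by
    rw [← card_map_of_injective (K := S) (f := (MulAut.conj u).toMonoidHom) (MulAut.conj u).injective]
    exact card_le_of_le (by rintro _ ⟨y, hy, rfl⟩; exact hu y hy))
  rw [heq]
  exact ⟨hx, mem_centralizer_singleton_iff.2 hxf⟩

/-- `A` is the product of its inverted part and `⟨f⟩`. -/
theorem A_dec {a : G} (ha : a ∈ A) :
    ∃ k ∈ A, ∃ s ∈ zpowers f, t * k * t⁻¹ = k⁻¹ ∧ a = k * s := by
  have htn : t ∈ normalizer (A : Set G) := mem_normalizer_of_conj h.t_mem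
  let σ : MulAut A := A.normalizerMonoidHom ⟨t, htn⟩
  have hσ : ∀ x, σ (σ x) = x := fun x => Subtype.ext (by
    show t * (t * x * t⁻¹) * t⁻¹ = x
    rw [show t * (t * (x : G) * t⁻¹) * t⁻¹ = (t * t) * x * (t * t)⁻¹ by group, h.t_sq]
    simp)
  obtain ⟨k, s, hks, hk, hs, -⟩ := Invol.exists_split σ h.odd_A hσ ⟨a, ha⟩
  obtain ⟨j, hj⟩ := h.pA s
  refine ⟨k, k.2, s, h.fixed s ?_ ?_ ⟨j, congrArg Subtype.val hj⟩, congrArg Subtype.val hk,
    congrArg Subtype.val hks⟩
  · exact h.comm s s.2 f h.f_mem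
  · exact (mul_inv_eq_iff_eq_mul.1 (congrArg Subtype.val hs : t * (s : G) * t⁻¹ = s)).symm

theorem conj_pow_scalar {a : G} (ha : a ∈ A) (hi : t * a * t⁻¹ = a⁻¹) (n : ℕ) :
    c ^ n * a * (c ^ n)⁻¹ = a ^ l ^ n := by
  induction n with
  | zero => simp
  | succ m ih =>
    rw [conj_iterate, ih, h.scalar _ (pow_mem ha _) (by rw [← conj_pow, hi, inv_pow]), ← pow_mul, pow_succ]

theorem exists_data : ∃ (c' : G) (l' : ℕ), PData p f t c' A l' d := by
  set E := Nat.card G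
  have hlp : ((l ^ p ^ E : ℕ) : ZMod p) = l := by rw [Nat.cast_pow, ZMod.pow_card_pow]
  refine ⟨c ^ p ^ E, l ^ p ^ E, ⟨⟨h.p_odd, h.ord_f, h.ord_t, h.tf, h.cf.pow_left _, h.ct.pow_left _, h.pA,
    h.f_mem, h.comm, h.t_mem, h.maxA, h.fixed, h.no_fusion, h.two, ?_, h.d_cop, ?_, ?_⟩, ?_, ?_⟩⟩
  · exact fun a ha hi => h.conj_pow_scalar ha hi _
  · rw [hlp]; exact h.l_d
  · rw [hlp]; exact h.l_sq
  · intro hd
    obtain ⟨i, m, hm, hm2⟩ := Nat.exists_eq_pow_mul_and_not_dvd (orderOf_pos c).ne' p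
      (Fact.out : p.Prime).one_lt.ne'
    have hiE : i ≤ E := by
      have h1 := Nat.le_of_dvd Nat.card_pos (orderOf_dvd_natCard c)
      have h2 := Nat.lt_pow_self (Fact.out : p.Prime).one_lt (n := i)
      have h3 : p ^ i ≤ orderOf c := Nat.le_of_dvd (orderOf_pos c) (hm2 ▸ dvd_mul_right _ _)
      omega
    refine hm (hd.trans (orderOf_dvd_of_pow_eq_one ?_))
    rw [← pow_mul]
    exact orderOf_dvd_iff_pow_eq_one.1 (hm2 ▸ mul_dvd_mul (pow_dvd_pow p hiE) dvd_rfl)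
  · rintro x ⟨k, hk⟩
    obtain ⟨i, -, hi⟩ := (Nat.dvd_prime_pow Fact.out).1 (orderOf_dvd_of_pow_eq_one hk)
    have hiN : i ≤ E + 1 := by
      have h1 := Nat.le_of_dvd Nat.card_pos (orderOf_dvd_natCard x)
      have h2 := Nat.lt_pow_self (Fact.out : p.Prime).one_lt (n := i)
      omega
    conv_rhs => rw [← pow_one x]
    rw [pow_eq_pow_iff_modEq, hi, ← pow_mul, mul_comm, pow_mul, ← Int.natCast_modEq_iff]
    have hd : (p : ℤ) ∣ ((l ^ d : ℕ) : ℤ) - 1 := by
      rw [← ZMod.intCast_zmod_eq_zero_iff_dvd, Int.cast_sub, Int.cast_natCast, Nat.cast_pow, h.l_d,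
        Int.cast_one, sub_self]
    have h3 := dvd_sub_pow_of_dvd_sub hd E
    rw [one_pow] at h3
    refine (Int.modEq_iff_dvd.2 ?_).symm
    push_cast
    exact (pow_dvd_pow (p : ℤ) hiN).trans (by exact_mod_cast h3)

end PPart

namespace PData

variable (h : PData p f t c A l d)
include h

theorem c_f : c * f * c⁻¹ = f := by rw [h.cf.eq, mul_inv_cancel_right]

theorem c_mem {a : G} (ha : a ∈ A) : c * a * c⁻¹ ∈ A := by
  obtain ⟨k, hk, s, hs, hki, rfl⟩ := h.toPPart.A_dec ha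
  obtain ⟨i, rfl⟩ := mem_zpowers_iff.1 hs
  rw [show c * (k * f ^ i) * c⁻¹ = (c * k * c⁻¹) * (c * f * c⁻¹) ^ i by rw [conj_zpow]; group, h.c_f,
    h.scalar k hk hki]
  exact mul_mem (pow_mem hk _) (zpow_mem h.f_mem i)

theorem c_pow_d {a : G} (ha : a ∈ A) : c ^ d * a * (c ^ d)⁻¹ = a := by
  obtain ⟨k, hk, s, hs, hki, rfl⟩ := h.toPPart.A_dec ha
  obtain ⟨i, rfl⟩ := mem_zpowers_iff.1 hs
  have h1 : c ^ d * f * (c ^ d)⁻¹ = f := by rw [(h.cf.pow_left d).eq, mul_inv_cancel_right]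
  obtain ⟨j, hj⟩ := h.pA ⟨k, hk⟩
  rw [show c ^ d * (k * f ^ i) * (c ^ d)⁻¹ = (c ^ d * k * (c ^ d)⁻¹) * (c ^ d * f * (c ^ d)⁻¹) ^ i by
    rw [conj_zpow]; group, h1, h.toPPart.conj_pow_scalar hk hki, h.ld k ⟨j, congrArg Subtype.val hj⟩]

theorem good_start : PGood p f t c A A c where
  pr := h.pA
  le := le_rfl
  nt := mem_normalizer_of_conj h.t_mem
  cen := h.cf
  ct := h.ct
  act := fun _ _ => rfl
  norm := mem_normalizer_of_conj fun _ => h.c_mem
  coprime := h.c_cop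

end PData

namespace PGood

variable {D : Subgroup G} {c' : G}

/-- The automorphism induced by `t`. -/
noncomputable def τ (hG : PGood p f t c A D c') : MulAut D := D.normalizerMonoidHom ⟨t, hG.nt⟩

/-- The automorphism induced by `c'`. -/
noncomputable def γ (hG : PGood p f t c A D c') : MulAut D := D.normalizerMonoidHom ⟨c', hG.norm⟩

theorem τ_coe (hG : PGood p f t c A D c') (x : D) : ((hG.τ x : D) : G) = t * x * t⁻¹ := rfl

theorem γ_coe (hG : PGood p f t c A D c') (x : D) : ((hG.γ x : D) : G) = c' * x * c'⁻¹ := rfl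

theorem τ_fixed (hG : PGood p f t c A D c') {x : D} : hG.τ x = x ↔ Commute (x : G) t := by
  rw [Subtype.ext_iff, hG.τ_coe, mul_inv_eq_iff_eq_mul]
  exact eq_comm

/-- A fixed element is a power of `f`. -/
theorem fixed_mem (hG : PGood p f t c A D c') (h : PData p f t c A l d) {x : G} (hx : x ∈ D)
    (hxt : Commute x t) : x ∈ zpowers f := by
  set Q : Subgroup G := D ⊓ centralizer ({t} : Set G) with hQ
  have hfQ : f ∈ Q := ⟨hG.le h.f_mem, mem_centralizer_singleton_iff.2 h.tf.symm.eq⟩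
  suffices htop : (zpowers f).subgroupOf Q = ⊤ from
    mem_subgroupOf.1 (htop ▸ mem_top (⟨x, hx, mem_centralizer_singleton_iff.2 hxt.eq⟩ : Q))
  by_contra hne
  haveI := (hG.pr.to_le (inf_le_left : Q ≤ D)).isNilpotent
  have hnc : NormalizerCondition Q := Group.normalizerCondition_of_isNilpotent
  obtain ⟨y, hy, hyH⟩ := SetLike.exists_of_lt (hnc _ (lt_top_iff_ne_top.2 hne))
  have h1 := (mem_normalizer_iff.1 hy ⟨f, hfQ⟩).1 (mem_subgroupOf.2 (mem_zpowers f))
  have h2 := h.no_fusion (y : G) (by simpa using mem_subgroupOf.1 h1)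
  obtain ⟨k, hk⟩ := hG.pr ⟨y, y.2.1⟩
  exact hyH (mem_subgroupOf.2 (h.fixed y (mul_inv_eq_iff_eq_mul.1 h2)
    (mem_centralizer_singleton_iff.1 y.2.2) ⟨k, congrArg Subtype.val hk⟩))

theorem conf (hG : PGood p f t c A D c') (h : PData p f t c A l d) :
    PSplit.Conf p hG.τ hG.γ (⟨f, hG.le h.f_mem⟩ : D) l d := by
  have hcen : ∀ x : D, Commute x (⟨f, hG.le h.f_mem⟩ : D) → (x : G) ∈ A := fun x hx =>
    h.toPPart.mem_A hG.pr hG.le x.2 (congrArg Subtype.val hx.eq)
  have hd0 : d ≠ 0 := fun h0 => h.d_cop (h0 ▸ dvd_zero p)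
  refine
    { pr := hG.pr, p_odd := h.p_odd, τ2 := fun x => Subtype.ext ?_, comm := fun x => Subtype.ext ?_,
      γd := ?_, ld := fun x => ?_, d_cop := h.d_cop, l0 := ?_, l_sq := ?_, fixed := fun x => ?_,
      γf := Subtype.ext ?_, cA := fun x y hx hy => Subtype.ext ?_, scal := fun x hx hi => Subtype.ext ?_ }
  · rw [hG.τ_coe, hG.τ_coe, show t * (t * (x : G) * t⁻¹) * t⁻¹ = (t * t) * x * (t * t)⁻¹ by group,
      h.toPPart.t_sq]
    simp
  · rw [hG.τ_coe, hG.γ_coe, hG.γ_coe, hG.τ_coe,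
      show t * (c' * (x : G) * c'⁻¹) * t⁻¹ = (t * c') * x * (t * c')⁻¹ by group, ← hG.ct.eq]
    group
  · refine SylowKey.aut_eq_one hG.pr (hG.γ ^ d) (m := orderOf c') ?_ hG.coprime (A.subgroupOf D)
      (fun a ha => ?_) (fun x hx => hcen x (hx _ (mem_subgroupOf.2 h.f_mem)))
    · rw [← pow_mul, mul_comm, pow_mul, γ, ← map_pow,
        show (⟨c', hG.norm⟩ : normalizer (D : Set G)) ^ orderOf c' = 1 from Subtype.ext (pow_orderOf_eq_one c'),
        map_one, one_pow]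
    · have haA : (a : G) ∈ A := mem_subgroupOf.1 ha
      have h1 : ∀ n : ℕ, (((hG.γ ^ n) a : D) : G) = c ^ n * a * (c ^ n)⁻¹ ∧
          (((hG.γ ^ n) a : D) : G) ∈ A := by
        intro n
        induction n with
        | zero => exact ⟨by simp, by simpa using haA⟩
        | succ m ih =>
          rw [pow_succ', MulAut.mul_apply, hG.γ_coe, hG.act _ ih.2]
          exact ⟨by rw [ih.1, conj_iterate], h.c_mem ih.2⟩
      exact Subtype.ext (by rw [(h1 d).1, h.c_pow_d haA])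
  · obtain ⟨k, hk⟩ := hG.pr x
    exact Subtype.ext (h.ld x ⟨k, congrArg Subtype.val hk⟩)
  · intro h0
    have h1 := h.l_d
    rw [h0, zero_pow hd0] at h1
    exact zero_ne_one h1
  · rw [Nat.cast_mul, ← pow_two]; exact h.l_sq
  · rw [hG.τ_fixed]
    constructor
    · intro hx
      obtain ⟨i, hi⟩ := mem_zpowers_iff.1 (hG.fixed_mem h x.2 hx)
      exact mem_zpowers_iff.2 ⟨i, Subtype.ext (by simpa using hi)⟩
    · intro hx
      obtain ⟨i, rfl⟩ := mem_zpowers_iff.1 hx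
      simpa using (h.tf.symm.zpow_left i)
  · rw [hG.γ_coe]
    show c' * f * c'⁻¹ = f
    rw [hG.cen.eq, mul_inv_cancel_right]
  · exact h.comm _ (hcen x hx) _ (hcen y hy)
  · rw [hG.γ_coe, hG.act _ (hcen x hx), h.scalar _ (hcen x hx) (congrArg Subtype.val hi)]
    rfl

theorem kcomm (hG : PGood p f t c A D c') (h : PData p f t c A l d) {x y : G} (hx : x ∈ D) (hy : y ∈ D)
    (hxi : t * x * t⁻¹ = x⁻¹) (hyi : t * y * t⁻¹ = y⁻¹) : Commute x y :=
  congrArg Subtype.val (((hG.conf h).split).comm ⟨x, hx⟩ ⟨y, hy⟩ (Subtype.ext hxi) (Subtype.ext hyi)).eq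

theorem kscal (hG : PGood p f t c A D c') (h : PData p f t c A l d) {x : G} (hx : x ∈ D)
    (hxi : t * x * t⁻¹ = x⁻¹) : c' * x * c'⁻¹ = x ^ l := by
  have h1 := congrArg Subtype.val (((hG.conf h).split).scal ⟨x, hx⟩ (Subtype.ext hxi))
  exact h1

theorem dec (hG : PGood p f t c A D c') (h : PData p f t c A l d) {x : G} (hx : x ∈ D) :
    ∃ k ∈ D, ∃ a ∈ zpowers f, t * k * t⁻¹ = k⁻¹ ∧ x = k * a := by
  obtain ⟨k, a, hk, ha, hka⟩ := ((hG.conf h).split).cover ⟨x, hx⟩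
  obtain ⟨i, rfl⟩ := mem_zpowers_iff.1 ha
  refine ⟨k, k.2, f ^ i, zpow_mem (mem_zpowers f) i, congrArg Subtype.val hk, ?_⟩
  simpa using congrArg Subtype.val hka

theorem of_le (hG : PGood p f t c A D c') (h : PData p f t c A l d) {D' : Subgroup G} (hDD : D' ≤ D)
    (hAD : A ≤ D') : PGood p f t c A D' c' := by
  have key : ∀ x ∈ D', t * x * t⁻¹ ∈ D' ∧ c' * x * c'⁻¹ ∈ D' := by
    intro x hx
    obtain ⟨k, hk, a, ha, hki, rfl⟩ := hG.dec h (hDD hx)
    obtain ⟨i, rfl⟩ := mem_zpowers_iff.1 ha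
    have hfi : f ^ i ∈ D' := zpow_mem (hAD h.f_mem) i
    have hkD : k ∈ D' := by simpa using mul_mem hx (inv_mem hfi)
    refine ⟨?_, ?_⟩
    · rw [show t * (k * f ^ i) * t⁻¹ = (t * k * t⁻¹) * (t * f * t⁻¹) ^ i by rw [conj_zpow]; group,
        hki, h.tf.eq, mul_inv_cancel_right]
      exact mul_mem (inv_mem hkD) hfi
    · rw [show c' * (k * f ^ i) * c'⁻¹ = (c' * k * c'⁻¹) * (c' * f * c'⁻¹) ^ i by rw [conj_zpow]; group,
        hG.kscal h hk hki, hG.cen.eq, mul_inv_cancel_right]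
      exact mul_mem (pow_mem hkD l) hfi
  exact ⟨hG.pr.to_le hDD, hAD, mem_normalizer_of_conj fun x hx => (key x hx).1, hG.cen, hG.ct, hG.act,
    mem_normalizer_of_conj fun x hx => (key x hx).2, hG.coprime⟩

end PGood

end CfsgLib.Walter.Field
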