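import Mathlib

/-!
Owner: helper19. Walter, field part: an involutive automorphism `σ` of a finite group of odd order.

* `exists_split`: every element is an inverted one times a fixed one;
* `inverts_of_free`, `comm_of_free`: without fixed points everything is inverted, and commutes;
* `exists_invariant_sylow`.
-/

set_option autoImplicit false
set_option linter.style.haveILetI false
set_option linter.unusedSectionVars false

namespace CfsgLib.Walter.Field.Invol

open Subgroup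
open scoped Pointwise

universe u

variable {X : Type u} [Group X] [Finite X]

/-- A square root inside the cyclic group of an element of odd order. -/
theorem exists_sqrt {z : X} (hz : Odd (orderOf z)) : ∃ n : ℕ, z ^ n * z ^ n = z := by
  obtain ⟨m, hm⟩ := hz
  refine ⟨m + 1, ?_⟩
  rw [← pow_add, show m + 1 + (m + 1) = orderOf z + 1 by omega, pow_succ, pow_orderOf_eq_one, one_mul]

theorem odd_orderOf (hX : Odd (Nat.card X)) (z : X) : Odd (orderOf z) :=
  Odd.of_dvd_nat hX (orderOf_dvd_natCard z)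

theorem eq_one_of_sq (hX : Odd (Nat.card X)) {z : X} (hz : z * z = 1) : z = 1 := by
  have h := orderOf_dvd_of_pow_eq_one (show z ^ 2 = 1 by rw [pow_two, hz])
  rcases (Nat.dvd_prime Nat.prime_two).1 h with h1 | h2
  · exact orderOf_eq_one_iff.1 h1
  · exact absurd (odd_orderOf hX z) (by rw [h2]; decide)

variable (σ : MulAut X) (hX : Odd (Nat.card X)) (hσ : ∀ x, σ (σ x) = x)

include hX hσ in
/-- Every element is `k * s`, `k` inverted and a power of `x * σ x⁻¹`, `s` fixed. -/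
theorem exists_split (x : X) :
    ∃ k s : X, x = k * s ∧ σ k = k⁻¹ ∧ σ s = s ∧ k ∈ zpowers (x * (σ x)⁻¹) := by
  set z := x * (σ x)⁻¹ with hz
  obtain ⟨n, hn⟩ := exists_sqrt (odd_orderOf hX z)
  have hσz : σ z = z⁻¹ := by rw [hz, map_mul, map_inv, hσ, mul_inv_rev, inv_inv]
  set k := z ^ n with hk
  have hσk : σ k = k⁻¹ := by rw [hk, map_pow, hσz, inv_pow]
  refine ⟨k, k⁻¹ * x, (mul_inv_cancel_left k x).symm, hσk, ?_, pow_mem (mem_zpowers z) n⟩
  calc σ (k⁻¹ * x) = k * σ x := by rw [map_mul, map_inv, hσk, inv_inv]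
    _ = k * (z⁻¹ * x) := by rw [hz, mul_inv_rev, inv_inv, inv_mul_cancel_right]
    _ = k * ((k * k)⁻¹ * x) := by rw [hn]
    _ = k⁻¹ * x := by group

include hX hσ in
/-- If `x * σ x⁻¹` lies in `V` then `x = v * s` with `v ∈ V` and `s` fixed. -/
theorem exists_fixed_mod {V : Subgroup X} {x : X} (hx : x * (σ x)⁻¹ ∈ V) :
    ∃ v ∈ V, σ v = v⁻¹ ∧ σ (v⁻¹ * x) = v⁻¹ * x := by
  obtain ⟨k, s, rfl, hk, hs, hmem⟩ := exists_split σ hX hσ x
  exact ⟨k, zpowers_le.2 hx hmem, hk, by rw [inv_mul_cancel_left]; exact hs⟩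

include hX in
/-- An inverted element times a fixed one is inverted only trivially. -/
theorem fixed_eq_one {x s : X} (hx : σ x = x⁻¹) (hs : σ s = s) (hxs : σ (x * s) = (x * s)⁻¹) :
    s = 1 := by
  rw [map_mul, hx, hs, mul_inv_rev] at hxs
  -- `x⁻¹ * s = s⁻¹ * x⁻¹`
  have h1 : x * s * x⁻¹ = s⁻¹ := by
    calc x * s * x⁻¹ = x * (s * (x⁻¹ * s)) * s⁻¹ := by group
      _ = x * (s * (s⁻¹ * x⁻¹)) * s⁻¹ := by rw [hxs]
      _ = s⁻¹ := by group
  have h2 : Commute (x * x) s := by
    show x * x * s = s * (x * x)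
    have h3 : x * (x * s * x⁻¹) * x⁻¹ = s := by
      rw [h1, ← inv_inj, show (x * s⁻¹ * x⁻¹)⁻¹ = x * s * x⁻¹ by group, h1]
    calc x * x * s = x * (x * s * x⁻¹) * x⁻¹ * (x * x) := by group
      _ = s * (x * x) := by rw [h3]
  obtain ⟨m, hm⟩ := odd_orderOf hX x
  have h4 : Commute x s := by
    have h5 : (x * x) ^ (m + 1) = x := by
      rw [← pow_two, ← pow_mul, show 2 * (m + 1) = orderOf x + 1 by omega, pow_succ, pow_orderOf_eq_one, one_mul]
    have := h2.pow_left (m + 1)
    rwa [h5] at this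
  rw [h4.eq, mul_inv_cancel_right] at h1
  exact eq_one_of_sq hX (eq_inv_iff_mul_eq_one.1 h1)

include hX hσ in
/-- Without fixed points in an invariant subgroup every element of it is inverted. -/
theorem inverts_of_free {B : Subgroup X} (hB : ∀ x ∈ B, σ x ∈ B)
    (hfree : ∀ x ∈ B, σ x = x → x = 1) {x : X} (hx : x ∈ B) : σ x = x⁻¹ := by
  obtain ⟨k, s, rfl, hk, hs, hmem⟩ := exists_split σ hX hσ x
  have hkB : k ∈ B := zpowers_le.2 (mul_mem hx (inv_mem (hB _ hx))) hmem
  have hs1 : s = 1 := hfree s (by simpa using mul_mem (inv_mem hkB) hx) hs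
  rw [hs1, mul_one]
  exact hk

include hX hσ in
theorem comm_of_free {B : Subgroup X} (hB : ∀ x ∈ B, σ x ∈ B)
    (hfree : ∀ x ∈ B, σ x = x → x = 1) {x y : X} (hx : x ∈ B) (hy : y ∈ B) : Commute x y := by
  have h := inverts_of_free σ hX hσ hB hfree (mul_mem hx hy)
  rw [map_mul, inverts_of_free σ hX hσ hB hfree hx, inverts_of_free σ hX hσ hB hfree hy,
    ← mul_inv_rev] at h
  exact (inv_inj.1 h).symm

include hX hσ in
/-- An invariant Sylow subgroup. -/
theorem exists_invariant_sylow (q : ℕ) [Fact q.Prime] :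
    ∃ P : Sylow q X, ∀ x ∈ (P : Subgroup X), σ x ∈ (P : Subgroup X) := by
  haveI : Fact (Nat.Prime 2) := ⟨Nat.prime_two⟩
  haveI : Finite (MulAut X) := Finite.of_injective _ MulEquiv.toEquiv_injective
  have hσ2 : σ ^ 2 = 1 := MulEquiv.ext fun x => by rw [pow_two, MulAut.mul_apply]; exact hσ x
  have hA : IsPGroup 2 (zpowers σ) := fun b => ⟨1, by
    obtain ⟨b, hb⟩ := b
    obtain ⟨i, rfl⟩ := mem_zpowers_iff.1 hb
    refine Subtype.ext ?_
    show (σ ^ i) ^ 2 ^ 1 = 1
    rw [pow_one, ← zpow_natCast (σ ^ i), ← zpow_mul, mul_comm, zpow_mul, zpow_natCast, hσ2, one_zpow]⟩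
  have hodd : ¬ 2 ∣ Nat.card (Sylow q X) := fun h2 => by
    have h3 := h2.trans ((Sylow.card_dvd_index (default : Sylow q X)).trans (index_dvd_card _))
    exact Nat.not_even_iff_odd.2 hX (even_iff_two_dvd.2 h3)
  obtain ⟨P, hP⟩ := hA.nonempty_fixed_point_of_prime_not_dvd_card (Sylow q X) hodd
  refine ⟨P, fun x hx => ?_⟩
  have h := hP ⟨σ, mem_zpowers σ⟩
  have h' : ((σ • P : Sylow q X) : Subgroup X) = P := congrArg (fun R : Sylow q X => (R : Subgroup X)) h
  rw [← h']
  show σ • x ∈ σ • (P : Subgroup X)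
  exact smul_mem_pointwise_smul x σ _ hx

end CfsgLib.Walter.Field.Invol
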