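import Cfsg.Agent.Lib.Recog.Walter.Field.PPart.Good
import Cfsg.Agent.Lib.Recog.Walter.Field.Reflection
import Cfsg.Agent.Lib.PGroups.FrattiniFaithful
import Mathlib.GroupTheory.SchurZassenhaus
import Mathlib.GroupTheory.Transfer

/-!
Owner: helper19. Walter, field part: the normalizer of a good `p`-subgroup `D`.

Its odd part acts on `D / Φ(D)` as in `Reflection`; hence all its `p`-elements lie in `C ⋊ S`, `C` the
`p'`-part of `C(D)`, and for a Sylow subgroup `D` it fixes `f` modulo `Φ(D)`.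
-/

set_option autoImplicit false
set_option linter.style.haveILetI false
set_option linter.unusedSectionVars false
set_option maxHeartbeats 800000

namespace CfsgLib.Walter.Field

open Subgroup
open scoped Pointwise

universe u

/-- An automorphism of a `p`-group of order prime to `p` which is trivial modulo the Frattini subgroup. -/
theorem eq_one_of_mod_frattini {P : Type u} [Group P] [Finite P] {p : ℕ} [Fact p.Prime] (hP : IsPGroup p P)
    (a : MulAut P) (ha : ¬ p ∣ orderOf a) (htriv : ∀ x : P, x⁻¹ * a x ∈ frattini P) : a = 1 := by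
  haveI : Finite (MulAut P) := Finite.of_injective _ MulEquiv.toEquiv_injective
  by_contra hne
  obtain ⟨q, hq, hqd⟩ := Nat.exists_prime_and_dvd (n := orderOf a) (fun h1 => hne (orderOf_eq_one_iff.1 h1))
  haveI : Fact q.Prime := ⟨hq⟩
  set b := a ^ (orderOf a / q) with hb
  have hbo : orderOf b = q := orderOf_pow_orderOf_div (orderOf_pos a).ne' hqd
  have hbt : ∀ (n : ℕ) (x : P), x⁻¹ * (a ^ n) x ∈ frattini P := by
    intro n
    induction n with
    | zero => intro x; simp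
    | succ m ih =>
      intro x
      rw [pow_succ', MulAut.mul_apply,
        show x⁻¹ * a ((a ^ m) x) = (x⁻¹ * (a ^ m) x) * (((a ^ m) x)⁻¹ * a ((a ^ m) x)) by group]
      exact mul_mem (ih x) (htriv _)
  have h1 := CfsgLib.PGroups.eq_one_of_trivial_mod_frattini hP (fun (e : q = p) => ha (e ▸ hqd)) b
    (orderOf_dvd_iff_pow_eq_one.1 (dvd_of_eq hbo)) (hbt _)
  rw [h1, orderOf_one] at hbo
  exact hq.one_lt.ne hbo

/-- The Frattini quotient as a space over `ZMod p`, with the action of the automorphisms. -/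
theorem exists_frattini_space {P : Type u} [Group P] [Finite P] {p : ℕ} [Fact p.Prime] (hP : IsPGroup p P) :
    ∃ (V : Type u) (_ : AddCommGroup V) (_ : Module (ZMod p) V) (mk : P → V),
      Function.Surjective mk ∧ (∀ x y, mk (x * y) = mk x + mk y) ∧ (∀ x, mk x = 0 ↔ x ∈ frattini P) ∧
      ∀ α : MulAut P, ∃ L : V ≃ₗ[ZMod p] V, ∀ x, L (mk x) = mk (α x) := by
  obtain ⟨hQc, hQp⟩ := CfsgLib.PGroups.frattini_quotient (p := p) hP
  letI : CommGroup (P ⧸ frattini P) :=
    { (inferInstance : Group (P ⧸ frattini P)) with mul_comm := fun a b => hQc.is_comm.comm a b }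
  letI hmod : Module (ZMod p) (Additive (P ⧸ frattini P)) :=
    AddCommGroup.zmodModule (fun x => Additive.toMul.injective (hQp x.toMul))
  refine ⟨Additive (P ⧸ frattini P), inferInstance, hmod, fun x => Additive.ofMul (x : P ⧸ frattini P),
    fun v => ?_, fun x y => rfl, fun x => ?_, fun α => ?_⟩
  · obtain ⟨x, hx⟩ := QuotientGroup.mk_surjective v.toMul
    exact ⟨x, by simp [hx]⟩
  · exact QuotientGroup.eq_one_iff x
  · let e := MulEquiv.toAdditive (QuotientGroup.congr (frattini P) (frattini P) α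
      (Subgroup.characteristic_iff_map_eq.1 inferInstance α))
    exact ⟨e.toLinearEquiv (fun a v => ZMod.map_smul e.toAddMonoidHom a v), fun x => rfl⟩

variable {G : Type u} [Group G] [Finite G] {p l d : ℕ} [hp : Fact p.Prime] {f t c : G} {A D : Subgroup G}
  {c' : G}

theorem PGood.normalizer_structure (h : PData p f t c A l d) (hG : PGood p f t c A D c') :
    ∃ C : Subgroup ↥(normalizer (D : Set G)),
      Odd (Nat.card C) ∧ (∀ x ∈ C, ∀ y ∈ D, (x : G) * y = y * x) ∧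
      (∀ x ∈ C, (⟨t, hG.nt⟩ : ↥(normalizer (D : Set G))) * x * ⟨t, hG.nt⟩⁻¹ ∈ C) ∧
      (∀ S₁ S₂ : Sylow p ↥(normalizer (D : Set G)), ∃ n ∈ C, ∀ x, x ∈ (S₁ : Subgroup _) ↔
        n⁻¹ * x * n ∈ (S₂ : Subgroup _)) ∧
      (∃ S : Sylow p ↥(normalizer (D : Set G)), ∀ x ∈ (S : Subgroup _),
        (⟨t, hG.nt⟩ : ↥(normalizer (D : Set G))) * x * ⟨t, hG.nt⟩⁻¹ ∈ (S : Subgroup _)) ∧
      ((∀ Q : Subgroup G, IsPGroup p Q → D ≤ Q → Q = D) → ∀ n : ↥(normalizer (D : Set G)),
        (⟨f, hG.le h.f_mem⟩ : D)⁻¹ * D.normalizerMonoidHom n ⟨f, hG.le h.f_mem⟩ ∈ frattini ↥D) := by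
  classical
  set M := normalizer (D : Set G) with hM
  set fD : D := ⟨f, hG.le h.f_mem⟩ with hfD
  set φ := D.normalizerMonoidHom with hφ
  set tM : M := ⟨t, hG.nt⟩ with htM
  set cM : M := ⟨c', hG.norm⟩ with hcM
  have htt : tM * tM = 1 := Subtype.ext h.toPPart.t_sq
  -- elements commuting with `t`
  have hfix_f : ∀ x : M, Commute (x : G) t → Commute (x : G) f := by
    intro x hx
    have h1 : (x : G) * f * (x : G)⁻¹ ∈ D := (mem_normalizer_iff.1 x.2 f).1 (hG.le h.f_mem)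
    have h2 := h.no_fusion _ (hG.fixed_mem h h1 ((hx.mul_left h.tf.symm).mul_left hx.inv_left))
    exact mul_inv_eq_iff_eq_mul.1 h2
  have hnormA : ∀ x : M, Commute (x : G) t → ∀ a ∈ A, (x : G) * a * (x : G)⁻¹ ∈ A := fun x hx a ha =>
    h.toPPart.mem_A hG.pr hG.le ((mem_normalizer_iff.1 x.2 a).1 (hG.le ha))
      (((hfix_f x hx).mul_left (h.comm a ha f h.f_mem)).mul_left (hfix_f x hx).inv_left)
  -- a normal subgroup of index two
  haveI : Fact (Nat.Prime 2) := ⟨Nat.prime_two⟩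
  have hto : orderOf tM = 2 := by rw [← Subgroup.orderOf_coe]; exact h.ord_t
  obtain ⟨S2, hS2⟩ := (IsPGroup.of_card (G := zpowers tM) (n := 1)
    (by rw [Nat.card_zpowers, hto, pow_one])).exists_le_sylow
  have hS2eq : (S2 : Subgroup M) = zpowers tM := by
    refine le_antisymm ?_ hS2
    by_contra hnle
    haveI := S2.isPGroup'.isNilpotent
    have hnc : NormalizerCondition (S2 : Subgroup M) := Group.normalizerCondition_of_isNilpotent
    obtain ⟨y, hy, hyT⟩ := SetLike.exists_of_lt (hnc ((zpowers tM).subgroupOf (S2 : Subgroup M))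
      (lt_top_iff_ne_top.2 fun h1 => hnle (subgroupOf_eq_top.1 h1)))
    have h1 := (mem_normalizer_iff.1 hy ⟨tM, hS2 (mem_zpowers tM)⟩).1 (mem_subgroupOf.2 (mem_zpowers tM))
    have h2 : (y : M) * tM * (y : M)⁻¹ ∈ zpowers tM := by simpa using mem_subgroupOf.1 h1
    obtain ⟨n, hn⟩ := mem_powers_iff_mem_zpowers.2 h2
    have h3 : (y : M) * tM * (y : M)⁻¹ = tM := by
      have h4 : tM ^ (n % 2) = (y : M) * tM * (y : M)⁻¹ := by
        rw [← hn, ← hto, pow_mod_orderOf]
      rcases Nat.mod_two_eq_zero_or_one n with e | e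
      · rw [e, pow_zero, eq_comm, conj_eq_one_iff] at h4
        rw [h4, orderOf_one] at hto
        omega
      · rw [e, pow_one] at h4; exact h4.symm
    have hyt : Commute ((y : M) : G) t := congrArg Subtype.val (mul_inv_eq_iff_eq_mul.1 h3)
    obtain ⟨k, hk⟩ := S2.isPGroup' y
    obtain ⟨i, hi⟩ := mem_zpowers_iff.1 (h.two _ (hfix_f _ hyt) hyt (hnormA _ hyt)
      ⟨k, by simpa using congrArg (fun z : (S2 : Subgroup M) => ((z : M) : G)) hk⟩)
    exact hyT (mem_subgroupOf.2 (mem_zpowers_iff.2 ⟨i, Subtype.ext (by simpa using hi)⟩))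
  have hS2card : Nat.card (S2 : Subgroup M) = 2 := by rw [hS2eq, Nat.card_zpowers, hto]
  have hNC : normalizer ((S2 : Subgroup M) : Set M) ≤ centralizer ((S2 : Subgroup M) : Set M) := by
    intro x hx
    refine mem_centralizer_iff.2 fun y hy => ?_
    have h1 := (mem_normalizer_iff.1 hx y).1 hy
    have hy' : y = 1 ∨ y = tM := by
      rw [SetLike.mem_coe, hS2eq] at hy
      obtain ⟨n, rfl⟩ := mem_powers_iff_mem_zpowers.2 hy
      show tM ^ n = 1 ∨ tM ^ n = tM
      rw [← pow_mod_orderOf, hto]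
      rcases Nat.mod_two_eq_zero_or_one n with e | e <;> simp [e]
    rcases hy' with rfl | rfl
    · rw [one_mul, mul_one]
    · rw [hS2eq] at h1
      obtain ⟨n, hn⟩ := mem_powers_iff_mem_zpowers.2 h1
      have h4 : tM ^ (n % 2) = x * tM * x⁻¹ := by rw [← hn, ← hto, pow_mod_orderOf]
      rcases Nat.mod_two_eq_zero_or_one n with e | e
      · rw [e, pow_zero, eq_comm, conj_eq_one_iff] at h4
        rw [h4, orderOf_one] at hto
        omega
      · rw [e, pow_one, eq_comm, mul_inv_eq_iff_eq_mul] at h4; exact h4.symm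
  haveI : IsMulCommutative (S2 : Subgroup M) := (isCyclic_of_prime_card hS2card).isMulCommutative
  set O := (MonoidHom.transferSylow S2 hNC).ker with hO
  have hcompl := MonoidHom.ker_transferSylow_isComplement' S2 hNC
  have hOidx : O.index = 2 := by rw [hcompl.symm.index_eq_card, hS2card]
  have hOodd : Odd (Nat.card O) := Nat.not_even_iff_odd.1 fun he =>
    MonoidHom.not_dvd_card_ker_transferSylow S2 hNC (even_iff_two_dvd.1 he)
  have htO : tM ∉ O := fun ht => by
    have h1 := orderOf_dvd_natCard (⟨tM, ht⟩ : O)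
    rw [Subgroup.orderOf_mk, hto] at h1
    exact Nat.not_even_iff_odd.2 hOodd (even_iff_two_dvd.2 h1)
  have hpO : ∀ x : M, (∃ k : ℕ, x ^ p ^ k = 1) → x ∈ O := by
    rintro x ⟨k, hk⟩
    have h1 : ((x : M ⧸ O)) ^ p ^ k = 1 := by rw [← QuotientGroup.mk_pow, hk, QuotientGroup.mk_one]
    have h2 : Nat.card (M ⧸ O) = 2 := by rw [← Subgroup.index_eq_card, hOidx]
    have h3 : ((x : M ⧸ O)) ^ 2 = 1 := by
      have := pow_card_eq_one' (x := (x : M ⧸ O))
      rwa [h2] at this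
    have h4 := pow_gcd_eq_one.mpr (⟨h1, h3⟩ : (x : M ⧸ O) ^ p ^ k = 1 ∧ (x : M ⧸ O) ^ 2 = 1)
    rw [(((Nat.coprime_primes hp.out Nat.prime_two).2 h.p_odd).pow_left k).gcd_eq_one, pow_one] at h4
    exact (QuotientGroup.eq_one_iff x).1 h4
  -- the space `D / Φ(D)`
  obtain ⟨V, iV, iMod, mk, hmks, hmkmul, hmk0, hL⟩ := exists_frattini_space (p := p) hG.pr
  choose toLin htoLin using hL
  haveI : Finite V := Finite.of_surjective mk hmks
  have hmk1 : mk 1 = 0 := (hmk0 1).2 (one_mem _)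
  have hmkinv : ∀ x, mk x⁻¹ = -mk x := fun x => eq_neg_of_add_eq_zero_left (by rw [← hmkmul, inv_mul_cancel, hmk1])
  have hmkpow : ∀ (x : ↥D) (n : ℕ), mk (x ^ n) = (n : ZMod p) • mk x := fun x n => by
    induction n with
    | zero => rw [pow_zero, hmk1, Nat.cast_zero, zero_smul]
    | succ m ih => rw [pow_succ, hmkmul, ih, Nat.cast_succ, add_smul, one_smul]
  have hmkz : ∀ (x : ↥D) (i : ℤ), mk (x ^ i) = i • mk x := fun x i => by
    cases i with
    | ofNat n => rw [Int.ofNat_eq_natCast, zpow_natCast, hmkpow, Nat.cast_smul_eq_nsmul, natCast_zsmul]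
    | negSucc n => rw [zpow_negSucc, hmkinv, hmkpow, Nat.cast_smul_eq_nsmul, negSucc_zsmul]
  have hmkeq : ∀ x y : ↥D, mk x = mk y ↔ x⁻¹ * y ∈ frattini ↥D := fun x y => by
    rw [← hmk0, hmkmul, hmkinv, neg_add_eq_zero]
  let ρ : M →* (V ≃ₗ[ZMod p] V) :=
    MonoidHom.mk' (fun n => toLin (φ n)) fun a b => LinearEquiv.ext fun v => by
      obtain ⟨x, rfl⟩ := hmks v
      show toLin (φ (a * b)) (mk x) = toLin (φ a) (toLin (φ b) (mk x))
      rw [htoLin, htoLin, htoLin, map_mul, MulAut.mul_apply]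
  have hρ : ∀ (n : M) (x : ↥D), ρ n (mk x) = mk (φ n x) := fun n x => htoLin _ x
  have hρker : ∀ n : M, ρ n = 1 → ∀ x : ↥D, x⁻¹ * φ n x ∈ frattini ↥D := fun n hn x => by
    have h1 := hρ n x
    rw [hn] at h1
    exact (hmkeq _ _).1 h1
  have hρinner : ∀ n : M, (n : G) ∈ D → ρ n = 1 := fun n hn => LinearEquiv.ext fun v => by
    obtain ⟨x, rfl⟩ := hmks v
    rw [hρ, show φ n x = (⟨n, hn⟩ : D) * x * (⟨n, hn⟩ : D)⁻¹ from Subtype.ext rfl, hmkmul, hmkmul, hmkinv]
    show _ = mk x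
    abel
  -- coordinates
  have hsp := (hG.conf h).split
  have hτφ : ∀ x : ↥D, φ tM x = hG.τ x := fun x => rfl
  have hγφ : ∀ x : ↥D, φ cM x = hG.γ x := fun x => rfl
  have hτf : hG.τ fD = fD := (hG.conf h).τf
  have hdec : ∀ v, ∃ (k : ↥D) (i : ℤ), hG.τ k = k⁻¹ ∧ v = mk k + i • mk fD := by
    intro v
    obtain ⟨x, rfl⟩ := hmks v
    obtain ⟨k, a, hk, ha, rfl⟩ := hsp.cover x
    obtain ⟨i, rfl⟩ := mem_zpowers_iff.1 ha
    exact ⟨k, i, hk, by rw [hmkmul, hmkz]⟩
  have htwo : (2 : ZMod p) ≠ 0 := fun h2 => h.p_odd ((Nat.prime_dvd_prime_iff_eq hp.out Nat.prime_two).1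
    ((ZMod.natCast_eq_zero_iff 2 p).1 (by exact_mod_cast h2)))
  have hτk : ∀ k : ↥D, hG.τ k = k⁻¹ → ρ tM (mk k) = -mk k := fun k hk => by
    rw [hρ, hτφ, hk, hmkinv]
  have hρf : ρ tM (mk fD) = mk fD := by rw [hρ, hτφ, hτf]
  have hfne : mk fD ≠ 0 := by
    intro h0
    have hfΦ : fD ∈ frattini ↥D := (hmk0 fD).1 h0
    have htop := CfsgLib.PGroups.closure_eq_top_of_sup_frattini (S := {x : ↥D | hG.τ x = x⁻¹}) (by
      refine eq_top_iff.2 fun x _ => ?_
      obtain ⟨k, a, hk, ha, rfl⟩ := hsp.cover x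
      obtain ⟨i, rfl⟩ := mem_zpowers_iff.1 ha
      exact mul_mem (mem_sup_left (subset_closure hk)) (mem_sup_right (zpow_mem hfΦ i)))
    have hinv : ∀ x ∈ closure {x : ↥D | hG.τ x = x⁻¹}, hG.τ x = x⁻¹ := by
      intro x hx
      induction hx using closure_induction with
      | mem y hy => exact hy
      | one => simp
      | mul a b _ _ ha hb => rw [map_mul, ha, hb, ← mul_inv_rev, (hsp.comm a b ha hb).eq]
      | inv a _ ha => rw [map_inv, ha]
    have h1 := hinv fD (htop ▸ mem_top _)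
    rw [hτf] at h1
    have h2 := Invol.eq_one_of_sq (hG.conf h).odd (eq_inv_iff_mul_eq_one.1 h1)
    obtain ⟨b, hb, hbo⟩ := h.ord_f
    rw [show f = 1 from congrArg Subtype.val h2, orderOf_one] at hbo
    exact (Nat.one_lt_pow hb.ne' hp.out.one_lt).ne hbo
  set Γ := O.map ρ with hΓ
  have hd0 : d ≠ 0 := fun h0 => h.d_cop (h0 ▸ dvd_zero p)
  have hconjO : ∀ (z : M) (g : _), g ∈ Γ → ρ z * g * (ρ z)⁻¹ ∈ Γ := by
    rintro z _ ⟨o, ho, rfl⟩
    refine ⟨z * o * z⁻¹, ?_, by rw [map_mul, map_mul, map_inv]⟩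
    exact (inferInstance : O.Normal).conj_mem o ho z
  -- lifting the fixed elements
  let σO : MulAut O :=
    { toFun := fun o => ⟨tM * o * tM⁻¹, (inferInstance : O.Normal).conj_mem o o.2 tM⟩
      invFun := fun o => ⟨tM * o * tM⁻¹, (inferInstance : O.Normal).conj_mem o o.2 tM⟩
      left_inv := fun o => Subtype.ext (by
        show tM * (tM * o * tM⁻¹) * tM⁻¹ = o
        rw [show tM * (tM * (o : M) * tM⁻¹) * tM⁻¹ = (tM * tM) * o * (tM * tM)⁻¹ by group, htt]; simp)
      right_inv := fun o => Subtype.ext (by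
        show tM * (tM * o * tM⁻¹) * tM⁻¹ = o
        rw [show tM * (tM * (o : M) * tM⁻¹) * tM⁻¹ = (tM * tM) * o * (tM * tM)⁻¹ by group, htt]; simp)
      map_mul' := fun a b => Subtype.ext (by
        show tM * ((a : M) * b) * tM⁻¹ = tM * a * tM⁻¹ * (tM * b * tM⁻¹)
        group) }
  have hlift : ∀ g ∈ Γ, g * ρ tM = ρ tM * g → ∃ s : M, Commute (s : G) t ∧ ρ s = g := by
    rintro _ ⟨o, ho, rfl⟩ hg
    obtain ⟨v, hv, -, hs⟩ := Invol.exists_fixed_mod σO hOodd σO.left_inv
      (V := (ρ.comp O.subtype).ker) (x := (⟨o, ho⟩ : O)) (by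
        rw [MonoidHom.mem_ker, MonoidHom.comp_apply]
        show ρ (o * (tM * o * tM⁻¹)⁻¹) = 1
        rw [map_mul, map_inv, map_mul, map_mul, map_inv, ← hg, mul_inv_cancel_right, mul_inv_cancel])
    refine ⟨((v⁻¹ * ⟨o, ho⟩ : O) : M), ?_, ?_⟩
    · have h1 := congrArg (fun z : O => (((z : M)) : G)) hs
      exact (mul_inv_eq_iff_eq_mul.1 h1).symm
    · rw [Subgroup.coe_mul, map_mul, Subgroup.coe_inv, map_inv,
        show ρ (v : M) = 1 from MonoidHom.mem_ker.1 hv, inv_one, one_mul]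
  have hrefl : Reflection.Refl (ρ tM) (ρ cM) (mk fD) (l : ZMod p) Γ :=
    { p_odd := h.p_odd
      τ2 := fun v => by
        rw [← Reflection.mul_apply', ← map_mul, htt, map_one]; rfl
      τe := hρf
      e_ne := hfne
      fixed := fun v hv => by
        obtain ⟨k, i, hk, rfl⟩ := hdec v
        rw [map_add, map_zsmul, hρf, hτk k hk, add_left_inj] at hv
        have h2 : (2 : ZMod p) • mk k = 0 := by
          rw [two_smul]
          nth_rewrite 1 [← hv]
          exact neg_add_cancel _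
        exact ⟨(i : ZMod p), by rw [(smul_eq_zero.1 h2).resolve_left htwo, zero_add, Int.cast_smul_eq_zsmul]⟩
      γe := by rw [hρ, hγφ, (hG.conf h).γf]
      γw := fun v hv => by
        obtain ⟨k, i, hk, rfl⟩ := hdec v
        rw [map_add, map_zsmul, hρf, hτk k hk, neg_add, add_right_inj] at hv
        have h0 : i • mk fD = 0 := by
          have h2 : (2 : ZMod p) • (i • mk fD) = 0 := by
            rw [two_smul]
            nth_rewrite 1 [hv]
            exact neg_add_cancel _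
          exact (smul_eq_zero.1 h2).resolve_left htwo
        rw [h0, add_zero, hρ, hγφ, hsp.scal k hk, hmkpow]
      μ0 := fun h0 => by
        have h1 := h.l_d
        rw [h0, zero_pow hd0] at h1
        exact zero_ne_one h1
      μ_sq := by rw [← pow_two]; exact h.l_sq
      odd := Odd.of_dvd_nat hOodd (card_map_dvd O ρ)
      τΓ := hconjO tM
      γΓ := hconjO cM
      fix_e := fun g hg hc => by
        obtain ⟨s, hs, rfl⟩ := hlift g hg hc
        rw [hρ]
        congr 1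
        refine Subtype.ext ?_
        show (s : G) * f * (s : G)⁻¹ = f
        rw [(hfix_f s hs).eq, mul_inv_cancel_right]
      no_p := fun g hg hc hgp => by
        obtain ⟨s, hs, rfl⟩ := hlift g hg hc
        obtain ⟨i, m, hm, hm2⟩ := Nat.exists_eq_pow_mul_and_not_dvd (orderOf_pos s).ne' p hp.out.one_lt.ne'
        have h1 : ((s ^ m : M) : G) ^ p ^ i = 1 := by
          rw [← SubgroupClass.coe_pow, ← pow_mul, mul_comm, ← hm2, pow_orderOf_eq_one]; rfl
        have h2 := h.fixed _ ((hfix_f s hs).pow_left m) (hs.pow_left m) ⟨i, by simpa using h1⟩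
        have h3 : ρ (s ^ m) = 1 := hρinner _ (by
          obtain ⟨j, hj⟩ := mem_zpowers_iff.1 h2
          rw [SubgroupClass.coe_pow, ← hj]
          exact zpow_mem (hG.le h.f_mem) j)
        rw [map_pow] at h3
        have h4 := pow_gcd_eq_one.mpr (⟨hgp, h3⟩ : ρ s ^ p = 1 ∧ ρ s ^ m = 1)
        rwa [((hp.out.coprime_iff_not_dvd).2 hm).gcd_eq_one, pow_one] at h4 }
  obtain ⟨T, hTΓ, hTp, hTn, hTt, hTel, hTcov⟩ := hrefl.exists_sylow
  -- its preimage
  set RT := O ⊓ T.comap ρ with hRT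
  have hcoprime : ∀ {x : M} {k : ℕ}, x ^ p ^ k = 1 → ¬ p ∣ orderOf x → x = 1 := fun {x k} hk hx =>
    orderOf_eq_one_iff.1 (Nat.eq_one_of_dvd_coprimes (((hp.out.coprime_iff_not_dvd).2 hx).pow_left k)
      (orderOf_dvd_of_pow_eq_one hk) dvd_rfl)
  -- the odd centraliser and its `p'`-part
  set Y := O ⊓ φ.ker with hY
  have hYD : ∀ x ∈ Y, ∀ y ∈ D, (x : G) * y = y * x := fun x hx y hy => by
    have h1 := congrArg Subtype.val (DFunLike.congr_fun (MonoidHom.mem_ker.1 hx.2) (⟨y, hy⟩ : D))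
    exact mul_inv_eq_iff_eq_mul.1 h1
  set Z := (A.comap M.subtype).subgroupOf Y with hZ
  have hZc : ∀ z : Y, z ∈ Z → ∀ y : Y, Commute z y := fun z hz y => Subtype.ext (Subtype.ext
    ((hYD y y.2 _ (hG.le (mem_subgroupOf.1 hz : ((z : M) : G) ∈ A))).symm))
  haveI : Z.Normal := ⟨fun z hz y => by rwa [(hZc z hz y).symm.eq, mul_inv_cancel_right]⟩
  have hZp : IsPGroup p Z := fun z => by
    obtain ⟨k, hk⟩ := h.pA ⟨((z : Y) : M), mem_subgroupOf.1 z.2⟩
    exact ⟨k, Subtype.ext (Subtype.ext (Subtype.ext (by simpa using congrArg Subtype.val hk)))⟩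
  have hpY : ∀ y : Y, (∃ k : ℕ, y ^ p ^ k = 1) → y ∈ Z := by
    rintro y ⟨k, hk⟩
    refine mem_subgroupOf.2 ?_
    show ((y : M) : G) ∈ A
    have hyA : ∀ a ∈ A, ((y : M) : G) * a = a * ((y : M) : G) := fun a ha => hYD _ y.2 a (hG.le ha)
    have hzp : IsPGroup p (zpowers ((y : M) : G)) := fun z => ⟨k, by
      obtain ⟨z, hz⟩ := z
      obtain ⟨i, rfl⟩ := mem_zpowers_iff.1 hz
      refine Subtype.ext ?_
      show (((y : M) : G) ^ i) ^ p ^ k = 1
      rw [← zpow_natCast (((y : M) : G) ^ i), ← zpow_mul, mul_comm, zpow_mul, zpow_natCast,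
        show ((y : M) : G) ^ p ^ k = 1 by simpa using congrArg (fun z : Y => ((z : M) : G)) hk, one_zpow]⟩
    have hnorm : zpowers ((y : M) : G) ≤ normalizer (A : Set G) := zpowers_le.2 (mem_normalizer_of_conj
      fun a ha => by rw [hyA a ha, mul_inv_cancel_right]; exact ha)
    exact h.toPPart.mem_A (hzp.to_sup_of_normal_right' h.pA hnorm) le_sup_right
      (mem_sup_left (mem_zpowers _)) (hyA f h.f_mem)
  have hZcop : (Nat.card Z).Coprime Z.index := by
    obtain ⟨k, hk⟩ := IsPGroup.iff_card.1 hZp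
    obtain ⟨S, hS⟩ := hZp.exists_le_sylow
    have hSZ : (S : Subgroup Y) ≤ Z := fun y hy => by
      obtain ⟨j, hj⟩ := S.isPGroup' ⟨y, hy⟩
      exact hpY y ⟨j, congrArg Subtype.val hj⟩
    rw [hk]
    refine Nat.Coprime.pow_left _ ((hp.out.coprime_iff_not_dvd).2 ?_)
    rw [le_antisymm hS hSZ]
    exact S.not_dvd_index
  obtain ⟨H, hH⟩ := exists_right_complement'_of_coprime hZcop
  set C := H.map Y.subtype with hC
  have hHcard : ¬ p ∣ Nat.card H := by
    rw [← hH.symm.index_eq_card]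
    intro hd
    obtain ⟨S, hS⟩ := hZp.exists_le_sylow
    have hSZ : (S : Subgroup Y) ≤ Z := fun y hy => by
      obtain ⟨j, hj⟩ := S.isPGroup' ⟨y, hy⟩
      exact hpY y ⟨j, congrArg Subtype.val hj⟩
    rw [le_antisymm hS hSZ] at hd
    exact S.not_dvd_index hd
  have hCY : C ≤ Y := map_subtype_le H
  have hCcop : ∀ x ∈ C, ¬ p ∣ orderOf x := by
    rintro _ ⟨y, hy, rfl⟩ hd
    refine hHcard (hd.trans ?_)
    rw [Subgroup.coe_subtype, Subgroup.orderOf_coe]
    exact Subgroup.orderOf_dvd_natCard H hy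
  have hCmem : ∀ x ∈ Y, ¬ p ∣ orderOf x → x ∈ C := by
    intro x hx hpx
    obtain ⟨⟨z, w⟩, hzw⟩ := hH.2 (⟨x, hx⟩ : Y)
    have hzw' : (z : Y) * w = ⟨x, hx⟩ := hzw
    suffices (z : Y) = 1 by
      refine ⟨w, w.2, ?_⟩
      rw [this, one_mul] at hzw'
      rw [hzw']; rfl
    have hcomm := hZc z z.2 w
    obtain ⟨k, hk⟩ := hZp z
    have h1 : ((z : Y) * w) ^ (orderOf x * Nat.card H) = 1 := by
      rw [hzw', pow_mul, show (⟨x, hx⟩ : Y) ^ orderOf x = 1 from Subtype.ext (pow_orderOf_eq_one x), one_pow]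
    rw [hcomm.mul_pow, mul_comm (orderOf x), pow_mul (w : Y),
      show (w : Y) ^ Nat.card H = 1 from congrArg Subtype.val (pow_card_eq_one' (x := w)), one_pow,
      mul_one] at h1
    have h2 := pow_gcd_eq_one.mpr (⟨congrArg Subtype.val hk, h1⟩ :
      (z : Y) ^ p ^ k = 1 ∧ (z : Y) ^ (Nat.card H * orderOf x) = 1)
    have hcop : (p ^ k).Coprime (Nat.card H * orderOf x) := Nat.Coprime.pow_left _
      ((hp.out.coprime_iff_not_dvd).2 fun hd => (hp.out.dvd_mul.1 hd).elim hHcard hpx)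
    rwa [hcop.gcd_eq_one, pow_one] at h2
  haveI hCn : C.Normal := ⟨fun x hx m => hCmem _
    ((inferInstance : Y.Normal).conj_mem x (hCY hx) m) (by
      rw [show m * x * m⁻¹ = MulAut.conj m x from rfl, MulEquiv.orderOf_eq]; exact hCcop x hx)⟩
  have hCodd : Odd (Nat.card C) := Odd.of_dvd_nat hOodd (card_dvd_of_le (hCY.trans inf_le_left))
  -- all `p`-elements lie in `RT`, which is `C` times a `p`-group
  have hRTmem : ∀ x : M, (∃ k : ℕ, x ^ p ^ k = 1) → x ∈ RT := by
    rintro x ⟨k, hk⟩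
    exact ⟨hpO x ⟨k, hk⟩, mem_comap.2 (hTel _ ⟨x, hpO x ⟨k, hk⟩, rfl⟩
      ⟨k, by rw [← map_pow, hk, map_one]⟩)⟩
  have hRTpow : ∀ x ∈ RT, ∃ k : ℕ, x ^ p ^ k ∈ C := by
    intro x hx
    obtain ⟨i, m, hm, hm2⟩ := Nat.exists_eq_pow_mul_and_not_dvd (orderOf_pos x).ne' p hp.out.one_lt.ne'
    refine ⟨i, ?_⟩
    set u := x ^ p ^ i with hu
    have hum : u ^ m = 1 := by rw [hu, ← pow_mul, ← hm2, pow_orderOf_eq_one]
    have huo : ¬ p ∣ orderOf u := fun hd => hm (hd.trans (orderOf_dvd_of_pow_eq_one hum))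
    obtain ⟨j, hj⟩ := hTp ⟨ρ u, by rw [hu, map_pow]; exact pow_mem (show ρ x ∈ T from hx.2) _⟩
    have hρu : ρ u = 1 := by
      refine orderOf_eq_one_iff.1 (Nat.eq_one_of_dvd_coprimes (((hp.out.coprime_iff_not_dvd).2 hm).pow_left j)
        (orderOf_dvd_of_pow_eq_one (congrArg Subtype.val hj : ρ u ^ p ^ j = 1))
        (orderOf_dvd_of_pow_eq_one (by rw [← map_pow, hum, map_one])))
    have hφu : φ u = 1 := eq_one_of_mod_frattini hG.pr (φ u)
      (fun hd => huo (hd.trans (orderOf_map_dvd φ u))) (hρker u hρu)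
    exact hCmem u ⟨pow_mem hx.1 _, MonoidHom.mem_ker.2 hφu⟩ huo
  set π := QuotientGroup.mk' C with hπ
  have hπRT : IsPGroup p (RT.map π) := by
    rintro ⟨_, x, hx, rfl⟩
    obtain ⟨k, hk⟩ := hRTpow x hx
    refine ⟨k, Subtype.ext ?_⟩
    show π x ^ p ^ k = 1
    rw [← map_pow]
    exact (QuotientGroup.eq_one_iff _).2 hk
  haveI hTcn : (T.comap ρ ⊓ O).Normal := by
    refine ⟨fun x hx m => ⟨mem_comap.2 ?_, (inferInstance : O.Normal).conj_mem x hx.2 m⟩⟩
    have hxT : ρ x ∈ T := hx.1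
    have key : ∀ o ∈ O, ρ (o * x * o⁻¹) ∈ T := fun o ho => by
      rw [map_mul, map_mul, map_inv]; exact hTn _ ⟨o, ho, rfl⟩ _ hxT
    by_cases hmO : m ∈ O
    · exact key m hmO
    · have hmt : tM⁻¹ * m ∈ O := by
        refine (Subgroup.mul_mem_iff_of_index_two hOidx).2 ?_
        simp [hmO, htO]
      rw [show m * x * m⁻¹ = tM * ((tM⁻¹ * m) * x * (tM⁻¹ * m)⁻¹) * tM⁻¹ by group, map_mul, map_mul, map_inv]
      exact hTt _ (key _ hmt)
  haveI hRTn : RT.Normal := by rw [hRT, inf_comm]; exact hTcn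
  have hSRT : ∀ S : Sylow p M, (S : Subgroup M) ≤ RT := fun S x hx => by
    obtain ⟨k, hk⟩ := S.isPGroup' ⟨x, hx⟩
    exact hRTmem x ⟨k, congrArg Subtype.val hk⟩
  have hπS : ∀ S : Sylow p M, RT.map π ≤ (S : Subgroup M).map π := fun S => by
    haveI : (RT.map π).Normal := Subgroup.Normal.map hRTn π (QuotientGroup.mk'_surjective C)
    have hS' := S.mapSurjective (QuotientGroup.mk'_surjective C)
    exact le_trans le_sup_left (le_of_eq ((S.mapSurjective (QuotientGroup.mk'_surjective C)).is_maximal'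
      (hπRT.to_sup_of_normal_left (S.mapSurjective (QuotientGroup.mk'_surjective C)).isPGroup')
      le_sup_right))
  refine ⟨C, hCodd, fun x hx y hy => hYD x (hCY hx) y hy, fun x hx => hCn.conj_mem x hx tM, ?_, ?_, ?_⟩
  · intro S₁ S₂
    obtain ⟨w, hw⟩ := MulAction.exists_smul_eq RT (S₂.subtype (hSRT S₂)) (S₁.subtype (hSRT S₁))
    obtain ⟨y, hy, hyw⟩ := hπS S₁ (mem_map_of_mem π w.2)
    have hc0 : y⁻¹ * (w : M) ∈ C := QuotientGroup.eq.1 hyw
    refine ⟨y⁻¹ * w, hc0, fun x => ?_⟩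
    have hmem : ∀ z : M, z ∈ (S₁ : Subgroup M) ↔ (w : M)⁻¹ * z * w ∈ (S₂ : Subgroup M) := by
      intro z
      have hle := congrArg (fun R : Sylow p RT => (R : Subgroup RT)) hw
      simp only [Sylow.coe_subgroup_smul, Sylow.coe_subtype] at hle
      constructor
      · intro hz
        have h1 : (⟨z, hSRT S₁ hz⟩ : RT) ∈ MulAut.conj w • (S₂ : Subgroup M).subgroupOf RT :=
          hle.symm ▸ mem_subgroupOf.2 hz
        rw [Subgroup.mem_pointwise_smul_iff_inv_smul_mem, MulAut.smul_def, mem_subgroupOf] at h1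
        simpa using h1
      · intro hz
        have h1 : (⟨(w : M)⁻¹ * z * w, hSRT S₂ hz⟩ : RT) ∈ (S₂ : Subgroup M).subgroupOf RT := mem_subgroupOf.2 hz
        have h2 := Subgroup.smul_mem_pointwise_smul _ (MulAut.conj w) _ h1
        rw [hle, MulAut.smul_def, mem_subgroupOf] at h2
        simpa [mul_assoc] using h2
    rw [show (y⁻¹ * (w : M))⁻¹ * x * (y⁻¹ * (w : M)) = (w : M)⁻¹ * (y * x * y⁻¹) * w by group, ← hmem]
    constructor
    · intro hx
      exact mul_mem (mul_mem hy hx) (inv_mem hy)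
    · intro hx
      have h1 := mul_mem (mul_mem (inv_mem hy) hx) hy
      rwa [show y⁻¹ * (y * x * y⁻¹) * y = x by group] at h1
  · let σR : MulAut RT :=
      { toFun := fun o => ⟨tM * o * tM⁻¹, hRTn.conj_mem o o.2 tM⟩
        invFun := fun o => ⟨tM * o * tM⁻¹, hRTn.conj_mem o o.2 tM⟩
        left_inv := fun o => Subtype.ext (by
          show tM * (tM * o * tM⁻¹) * tM⁻¹ = o
          rw [show tM * (tM * (o : M) * tM⁻¹) * tM⁻¹ = (tM * tM) * o * (tM * tM)⁻¹ by group, htt]; simp)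
        right_inv := fun o => Subtype.ext (by
          show tM * (tM * o * tM⁻¹) * tM⁻¹ = o
          rw [show tM * (tM * (o : M) * tM⁻¹) * tM⁻¹ = (tM * tM) * o * (tM * tM)⁻¹ by group, htt]; simp)
        map_mul' := fun a b => Subtype.ext (by
          show tM * ((a : M) * b) * tM⁻¹ = tM * a * tM⁻¹ * (tM * b * tM⁻¹)
          group) }
    obtain ⟨S₀, hS₀⟩ := Invol.exists_invariant_sylow σR
      (Odd.of_dvd_nat hOodd (card_dvd_of_le inf_le_left)) σR.left_inv p
    obtain ⟨S, hS⟩ := (S₀.isPGroup'.map RT.subtype).exists_le_sylow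
    have hS' : (S : Subgroup M).subgroupOf RT = S₀ := by
      refine S₀.is_maximal' (S.isPGroup'.comap_of_injective RT.subtype RT.subtype_injective) fun x hx => ?_
      exact mem_subgroupOf.2 (hS ⟨x, hx, rfl⟩)
    refine ⟨S, fun x hx => ?_⟩
    have hx0 : (⟨x, hSRT S hx⟩ : RT) ∈ (S₀ : Subgroup RT) := hS' ▸ mem_subgroupOf.2 hx
    exact hS ⟨_, hS₀ _ hx0, rfl⟩
  · intro hmax n
    have hDle : ∀ S : Sylow p M, ∀ x ∈ (S : Subgroup M), (x : G) ∈ D := fun S x hx => by
      haveI hDn : (D.subgroupOf M).Normal := normal_in_normalizer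
      have hP : IsPGroup p ((D.subgroupOf M ⊔ S).map M.subtype : Subgroup G) :=
        ((show IsPGroup p (D.subgroupOf M) from
          hG.pr.comap_of_injective M.subtype M.subtype_injective).to_sup_of_normal_left S.isPGroup').map _
      have hDP : D ≤ (D.subgroupOf M ⊔ S).map M.subtype := fun y hy =>
        ⟨⟨y, le_normalizer hy⟩, mem_sup_left (mem_subgroupOf.2 hy), rfl⟩
      exact (hmax _ hP hDP).le ⟨x, mem_sup_right hx, rfl⟩
    obtain ⟨S⟩ : Nonempty (Sylow p M) := Sylow.nonempty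
    have hTone : ∀ x ∈ T, x = 1 := by
      intro x hx
      obtain ⟨o, ho, rfl⟩ := hTΓ hx
      obtain ⟨y, hy, hyo⟩ := hπS S (mem_map_of_mem π (show o ∈ RT from ⟨ho, hx⟩))
      have hc0 : y⁻¹ * o ∈ C := QuotientGroup.eq.1 hyo
      have h1 : ρ y = 1 := hρinner y (hDle S y hy)
      have h2 : ρ (y⁻¹ * o) = 1 := LinearEquiv.ext fun v => by
        obtain ⟨z, rfl⟩ := hmks v
        rw [hρ, MonoidHom.mem_ker.1 (hCY hc0).2]; rfl
      rwa [map_mul, map_inv, h1, inv_one, one_mul] at h2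
    have hfix : ∀ o ∈ O, ρ o (mk fD) = mk fD := fun o ho => by
      obtain ⟨x, hx, s, hsΓ, hst, hos⟩ := hTcov (ρ o) ⟨o, ho, rfl⟩
      rw [hos, hTone x hx, one_mul]
      exact hrefl.fix_e s hsΓ hst
    have hn : ρ n (mk fD) = mk fD := by
      by_cases hmO : n ∈ O
      · exact hfix n hmO
      · have hmt : tM⁻¹ * n ∈ O := by
          refine (Subgroup.mul_mem_iff_of_index_two hOidx).2 ?_
          simp [hmO, htO]
        rw [← mul_inv_cancel_left tM n, map_mul, Reflection.mul_apply', hfix _ hmt, hρf]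
    rw [hρ] at hn
    exact (hmkeq _ _).1 hn.symm

end CfsgLib.Walter.Field
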